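import Groth.Agent.DualMod3.Apps
import Groth.Agent.DualMod3.H1Le
import Groth.Agent.DualLib.OmegaField
import Groth.Agent.SerreDual.TraceBijective
import Groth.Agent.SphLib.ModSky
import Groth.Agent.CycLib28.Components
import Groth.Agent.Dual22Lib.AdjExists

/-!
# Duality in all degrees on a proper Cohen-Macaulay scheme over a field
-/

set_option autoImplicit false
set_option backward.isDefEq.respectTransparency false
set_option backward.defeqAttrib.useBackward true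
set_option linter.style.haveILetI false
set_option maxHeartbeats 1000000

universe u

open CategoryTheory CategoryTheory.Limits CategoryTheory.Abelian DerivedCategory AlgebraicGeometry Opposite TopologicalSpace
open Groth.Agent.Coherent Groth.Agent.DCat

attribute [local instance] HasDerivedCategory.standard

namespace Groth.Agent.Mod22.CMDual

variable (k : Type u) [Field k] (X : Scheme.{u}) [X.Over (Spec (CommRingCat.of k))]
  [IsProper (X ↘ Spec (CommRingCat.of k))]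

/-- A module with zero stalks is zero. -/
theorem isZero_of_subsingleton {Y : Scheme.{u}} {M : Y.Modules} (h : ∀ y, Subsingleton (M.presheaf.stalk y)) :
    IsZero M := by
  rw [IsZero.iff_id_eq_zero]
  refine Scheme.Modules.hom_ext _ _ fun U => ConcreteCategory.hom_ext _ _ fun a => ?_
  show a = 0
  let F : TopCat.Sheaf Ab Y := ⟨M.presheaf, M.isSheaf⟩
  exact TopCat.Presheaf.section_ext F _ _ _ fun x hx => @Subsingleton.elim _ (h x) _ _

/-- The twisted inverse image of `O` of a Cohen-Macaulay equidimensional scheme lives in one degree. -/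
theorem exists_repObj_single (n : ℕ) (hn : topologicalKrullDim ↥X = n)
    (hCM : ∀ x : X, LocCoh.IsCohenMacaulayLocalRing (X.presheaf.stalk x))
    (heq : ∀ x : X, IsClosed ({x} : Set ↥X) → ringKrullDim (X.presheaf.stalk x) = n) :
    ∃ A : DCoh.D X, Dual22Lib.RepLib.RepObj (X ↘ Spec (CommRingCat.of k)) (DualLib.DualCoh.PS k) A ∧
      A.IsGE (-(n : ℤ)) ∧ A.IsLE (-(n : ℤ)) := by
  let f := X ↘ Spec (CommRingCat.of k)
  haveI := EulerLib.isNoetherian_of_proper (k := k) (X := X)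
  haveI : X.IsSeparated := EulerLib.isSeparated_of_proper (X := X) k
  haveI : ∀ (U V : Scheme.{u}) (j : U ⟶ V) [IsOpenImmersion j],
      PreservesFiniteLimits (Scheme.Modules.restrictFunctor j) := fun U V j _ =>
    DCat.PullPerf.preservesFiniteLimits_restrict j
  haveI : ∀ (S : CommRingCat.{u}), PreservesFiniteLimits (tilde.functor S) :=
    AffSchLib.preservesFiniteLimits_tilde
  haveI := DCat.hasRpush f
  have hf : DCoh.RpushPreservesQCoh f := fun K hK => DQCoh.isQCohD_Rpush f K hK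
  haveI : DCoh.HasShriek f hf := Dual22Lib.AdjGeom.isLeftAdjoint_RpushQ f hf
  let OY : DCoh.DQCoh (Spec (CommRingCat.of k)) :=
    ⟨DCoh.inD (Spec (CommRingCat.of k)) (Coh.structureModule (Spec (CommRingCat.of k))),
      haveI : Coh.IsQCoh (Coh.structureModule (Spec (CommRingCat.of k))) := Coherent.isQCoh_structureModule
      FlatBC14.isQCohD_inD _⟩
  have hR := DualMod3.repObj_shriek k X hf OY ⟨Iso.refl _⟩
  haveI hGE := DualLib.DualCoh.isGE_rep k X (d := n) hn.le hR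
  refine ⟨_, hR, hGE, (DerivedCategory.isLE_iff _ _).2 fun i hi => ?_⟩
  have hc : Coh.IsCoh (DCoh.HD (DCoh.dualizingCx f hf OY) i) := DualLib.DualCoh.isCohD_rep k X hR i
  refine isZero_of_subsingleton fun x => ?_
  by_contra hx
  rw [not_subsingleton_iff_nontrivial] at hx
  haveI : JacobsonSpace X := LocallyOfFiniteType.jacobsonSpace f
  obtain ⟨c, hc1, hc2⟩ := nonempty_inter_closedPoints
    ⟨x, hx⟩ (CycLib28.isClosed_nontrivial hc).isLocallyClosed
  have hb := (DualLib.OmegaField.bounds hf (DCoh.shriek f hf) (DCoh.shriekAdj f hf) OY ⟨Iso.refl _⟩ n hn).1 i c hc1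
  have h := ((DualLib.OmegaField.depth_closed hf (DCoh.shriek f hf) (DCoh.shriekAdj f hf) OY ⟨Iso.refl _⟩ n hn c hc2 i).1
    ⟨i, le_rfl, hb.2, hc1⟩).1
  haveI := hCM c
  have hd : ((LocCoh.depth (X.presheaf.stalk c) (X.presheaf.stalk c) : ℕ∞) : WithBot ℕ∞) = n := by
    rw [← (hCM c).supportDim_eq_depth, Module.supportDim_self_eq_ringKrullDim]
    exact heq c hc2
  have hd' : LocCoh.depth (X.presheaf.stalk c) (X.presheaf.stalk c) = (n : ℕ∞) := by exact_mod_cast hd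
  rw [hd', Nat.cast_le] at h
  omega

variable [DCoh.HasRpush (X ↘ Spec (CommRingCat.of k))]

/-- `Hom(F[r], A)` is dual to the `r`-th cohomology, naturally. -/
theorem exists_duality {A : DCoh.D X}
    (hA : Dual22Lib.RepLib.RepObj (X ↘ Spec (CommRingCat.of k)) (DualLib.DualCoh.PS k) A) (r : ℕ) :
    ∃ Φ : ∀ F : X.Modules, (((singleFunctor X.Modules 0).obj F)⟦(r : ℤ)⟧ ⟶ A) → (Coh.HH X F r →ₗ[k] k),
      (∀ F : X.Modules, Coh.IsQCoh F → Function.Bijective (Φ F)) ∧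
      ∀ {F G : X.Modules} (g : F ⟶ G) (y : ((singleFunctor X.Modules 0).obj G)⟦(r : ℤ)⟧ ⟶ A),
        Φ F ((((singleFunctor X.Modules 0).map g)⟦(r : ℤ)⟧') ≫ y) = Φ G y ∘ₗ SerreDual.hmap k g r := by
  haveI := EulerLib.isNoetherian_of_proper (k := k) (X := X)
  haveI : X.IsSeparated := EulerLib.isSeparated_of_proper (X := X) k
  haveI := AffSchLib.preservesFiniteLimits_tilde (CommRingCat.of k)
  let R := DCoh.Rpush (X ↘ Spec (CommRingCat.of k))
  obtain ⟨hAq, ε, hε⟩ := hA.out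
  obtain ⟨ℓ, hℓ⟩ := DualMod3.exists_coef k
  obtain ⟨e, he⟩ := DualLib.DualCoh.exists_eLin (k := k) (X := X)
  let Φ : ∀ F : X.Modules, (((singleFunctor X.Modules 0).obj F)⟦(r : ℤ)⟧ ⟶ A) → (Coh.HH X F r →ₗ[k] k) :=
    fun F y => ℓ ∘ₗ Linear.rightComp k (DualLib.DualCoh.PS k) (R.map y ≫ ε) ∘ₗ (e F r).symm.toLinearMap
  have key : ∀ (F : X.Modules) (y : ((singleFunctor X.Modules 0).obj F)⟦(r : ℤ)⟧ ⟶ A)
      (x : DualLib.DualCoh.PS k ⟶ DualLib.DualCoh.gS k F r), Φ F y (e F r x) = ℓ (x ≫ R.map y ≫ ε) := fun F y x => by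
    show ℓ ((e F r).symm (e F r x) ≫ R.map y ≫ ε) = _
    rw [LinearEquiv.symm_apply_apply]
  refine ⟨Φ, fun F hF => ?_, fun {F G} g y => LinearMap.ext fun z => ?_⟩
  · haveI := hF
    have hq : DCoh.IsQCohD (((singleFunctor X.Modules 0).obj F)⟦(r : ℤ)⟧) :=
      DQCoh.isQCohD_shift (FlatBC14.isQCohD_inD F) _
    refine ⟨fun y y' hyy => (hε _ hq).1 ?_, fun Λ => ?_⟩
    · refine sub_eq_zero.1 (DualMod3.eq_zero_of_comp' k (DualLib.DualCoh.isQCohD_gS F r) _ fun x => ?_)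
      rw [Preadditive.comp_sub, sub_eq_zero]
      have h12 := (key F y x).symm.trans ((LinearMap.congr_fun hyy (e F r x)).trans (key F y' x))
      exact (hℓ _).trans ((congrArg (fun a : k => a • 𝟙 (DualLib.DualCoh.PS k)) h12).trans (hℓ _).symm)
    · obtain ⟨φ, hφ⟩ := DualLib.FieldFun.exists_functional (DualLib.DualCoh.gS k F r)
        (DualLib.DualCoh.isQCohD_gS F r) (Λ ∘ₗ (e F r).toLinearMap)
      obtain ⟨y, hy⟩ := (hε _ hq).2 φ
      refine ⟨y, LinearMap.ext fun z => ?_⟩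
      obtain ⟨x, rfl⟩ := (e F r).surjective z
      rw [key, show R.map y ≫ ε = φ from hy, hφ, map_smul]
      have h1 : ℓ (𝟙 (DualLib.DualCoh.PS k)) = 1 := by
        have hne : 𝟙 (DualLib.DualCoh.PS k) ≠ 0 := fun h =>
          DualLib.DualCoh.not_isZero_PS k ((IsZero.iff_id_eq_zero _).2 h)
        exact smul_left_injective k hne ((hℓ _).symm.trans (one_smul k _).symm)
      rw [h1, smul_eq_mul, mul_one]
      rfl
  · obtain ⟨x, rfl⟩ := (e F r).surjective z
    show Φ F _ (e F r x) = Φ G y (SerreDual.hmap k g r (e F r x))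
    rw [SerreDual.hmap_eq, ← he F G g r x, key, key, Functor.map_comp]
    simp only [Category.assoc]
    rfl

/-- On a Cohen-Macaulay equidimensional proper scheme `Ext^j(F, ω)` is dual to `H^r(F)`, naturally. -/
theorem exists_extDuality [HasExt.{u} X.Modules] (n : ℕ) (hn : topologicalKrullDim ↥X = n)
    (hCM : ∀ x : X, LocCoh.IsCohenMacaulayLocalRing (X.presheaf.stalk x))
    (heq : ∀ x : X, IsClosed ({x} : Set ↥X) → ringKrullDim (X.presheaf.stalk x) = n)
    {ω : X.Modules} [Coh.IsQCoh ω] (t : Coh.HH X ω n →ₗ[k] k) (ht : ∀ F : X.Modules, Coh.IsQCoh F → SerreDual.Rep t F)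
    (j r : ℕ) (hjr : j + r = n) :
    ∃ Φ : ∀ F : X.Modules, Ext F ω j → (Coh.HH X F r →ₗ[k] k),
      (∀ F : X.Modules, Coh.IsQCoh F → Function.Bijective (Φ F)) ∧
      ∀ {F G : X.Modules} (g : F ⟶ G) (x : Ext G ω j),
        Φ F ((Ext.mk₀ g).comp x (zero_add j)) = Φ G x ∘ₗ SerreDual.hmap k g r := by
  obtain ⟨A, hA, hge, hle⟩ := exists_repObj_single k X n hn hCM heq
  obtain ⟨Φ, hΦ, hΦn⟩ := exists_duality k X hA r
  obtain ⟨t₂, ht₂⟩ := DualMod3.exists_rep_of_repObj k X (d := n) hn.le hA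
  have hW : Coh.IsQCoh (DCoh.HD A (-(n : ℤ))) := hA.mem _
  obtain ⟨a, ha⟩ := (ht₂ ω inferInstance).2 t
  obtain ⟨c, hc⟩ := (ht (DCoh.HD A (-(n : ℤ))) hW).2 t₂
  have hac : a ≫ c = 𝟙 ω := (ht ω inferInstance).1 (by
    rw [SerreDual.theta_comp, hc]
    show t₂ ∘ₗ SerreDual.hmap k a n = t ∘ₗ SerreDual.hmap k (𝟙 ω) n
    rw [SerreDual.hmap_id, LinearMap.comp_id]
    exact ha)
  have hca : c ≫ a = 𝟙 _ := (ht₂ _ hW).1 (by
    rw [SerreDual.theta_comp, ha]
    show t ∘ₗ SerreDual.hmap k c n = t₂ ∘ₗ SerreDual.hmap k (𝟙 _) n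
    rw [SerreDual.hmap_id, LinearMap.comp_id]
    exact hc)
  obtain ⟨M, ⟨eM⟩⟩ := exists_iso_singleFunctor_obj_of_isGE_of_isLE A (-(n : ℤ))
  let w : M ≅ DCoh.HD A (-(n : ℤ)) := ((singleFunctorCompHomologyFunctorIso X.Modules (-(n : ℤ))).app M).symm ≪≫
    (homologyFunctor X.Modules (-(n : ℤ))).mapIso eM.symm
  let b : ((singleFunctor X.Modules 0).obj ω)⟦(n : ℤ)⟧ ≅ A :=
    (shiftFunctor (DCoh.D X) (n : ℤ)).mapIso ((singleFunctor X.Modules 0).mapIso ((⟨a, c, hac, hca⟩ : ω ≅ _) ≪≫ w.symm)) ≪≫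
      ((SingleFunctors.shiftIso (DerivedCategory.singleFunctors X.Modules) (n : ℤ) (-(n : ℤ)) 0 (by omega)).app M) ≪≫ eM.symm
  let b' : ((((singleFunctor X.Modules 0).obj ω)⟦(j : ℤ)⟧)⟦(r : ℤ)⟧) ≅ A :=
    ((shiftFunctorAdd' (DCoh.D X) (j : ℤ) (r : ℤ) (n : ℤ) (by omega)).app _).symm ≪≫ b
  let T : ∀ F : X.Modules, Ext F ω j → (((singleFunctor X.Modules 0).obj F)⟦(r : ℤ)⟧ ⟶ A) :=
    fun F x => x.hom⟦(r : ℤ)⟧' ≫ b'.hom
  refine ⟨fun F x => Φ F (T F x), fun F hF => (hΦ F hF).comp ?_, fun {F G} g x => ?_⟩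
  · exact (b'.homToEquiv).bijective.comp ((((Functor.FullyFaithful.ofFullyFaithful
      (shiftFunctor (DCoh.D X) (r : ℤ))).map_bijective _ _)).comp Ext.homEquiv.bijective)
  · show Φ F (T F _) = Φ G (T G x) ∘ₗ _
    rw [← hΦn g]
    congr 1
    show ((Ext.mk₀ g).comp x (zero_add j)).hom⟦(r : ℤ)⟧' ≫ b'.hom = _
    rw [Ext.comp_hom, Ext.mk₀_hom, ShiftedHom.mk₀_comp, Functor.map_comp, Category.assoc]

end Groth.Agent.Mod22.CMDual
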