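import Groth.Agent.S15853
import Groth.Agent.VarietyLib.DegBasic

/-!
# Invertible hulls of rank-one modules on a surface of Picard number one
-/

set_option autoImplicit false
set_option linter.style.haveILetI false
set_option linter.unusedSectionVars false
set_option backward.isDefEq.respectTransparency.types false
set_option maxHeartbeats 1000000

universe u

open CategoryTheory CategoryTheory.Limits AlgebraicGeometry Opposite TopologicalSpace Polynomial StabCat
open Groth.Agent.Coherent Groth.Agent.PicLib Groth.Agent.AmpleLib Groth.Agent.EulerLib Groth.Agent.DimLib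
open Groth.Agent.AssSch12 Groth.Agent.Mod22.RankOneSlope

namespace Groth.Agent.Mod22.RankOneHull

theorem stalkMapₗ_comp {X : Scheme.{u}} {A B C : X.Modules} (φ : A ⟶ B) (ψ : B ⟶ C) (y : X)
    (v : A.presheaf.stalk y) :
    RefHull.stalkMapₗ (φ ≫ ψ) y v = RefHull.stalkMapₗ ψ y (RefHull.stalkMapₗ φ y v) :=
  (stalk_comp_apply φ ψ v).symm

variable (k : Type u) [Field k] [IsAlgClosed k] {S : Scheme.{u}} [S.Over (Spec (CommRingCat.of k))]
  [IsProper (S ↘ Spec (CommRingCat.of k))] [IsIntegral S] [Smooth (S ↘ Spec (CommRingCat.of k))]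

include k in
theorem regular (x : S) : IsRegularLocalRing (S.presheaf.stalk x) :=
  VarietyLib.isRegularLocalRing_stalk_of_smooth k S (S ↘ Spec (CommRingCat.of k)) x

include k in
theorem normal : Pi1.IsNormalScheme S := fun x => by
  haveI := regular k x
  haveI : UniqueFactorizationMonoid (S.presheaf.stalk x) := CAlgH3.ufm_of_regular _
  exact ⟨inferInstance, inferInstance⟩

variable (hdim : topologicalKrullDim S = 2) {L : S.Modules} (hL : CohB1.IsAmple L)

/-- The bidual of a torsion-free coherent module is a monomorphism. -/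
theorem mono_bidual [IsLocallyNoetherian S] {Q : S.Modules} (hQ : Coh.IsCoh Q) (ht : TorSh.IsTorsionFree Q) :
    Mono (RefHull.bidualMap Q) := by
  have hD := RefHullLib.isCoh_ddual hQ
  refine Preadditive.mono_of_isZero_kernel _ (isZero_of_torsionFree (isCoh_kernel _ hQ hD.1).1
    (Surf15.isTorsionFree_of_mono (kernel.ι _) ht) fun h => h (subsingleton_of_forall_eq 0 fun x => ?_))
  let St := DerSch.stalkFunctor S (genericPoint S)
  have h0 : St.map (RefHull.bidualMap Q) (St.map (kernel.ι (RefHull.bidualMap Q)) x) = 0 := by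
    rw [stalk_comp_apply, kernel.condition]
    exact stalk_zero_apply _
  have h1 : St.map (kernel.ι (RefHull.bidualMap Q)) x = 0 :=
    (RefHullLib.bijective_stalk_bidualMap_genericPoint hQ).1 (h0.trans (map_zero _).symm)
  exact (ModuleCat.mono_iff_injective (St.map (kernel.ι (RefHull.bidualMap Q)))).1 inferInstance
    (h1.trans (map_zero _).symm)

include k in
theorem isInvertible_ddual {Q : S.Modules} (hQ : Coh.IsCoh Q)
    (hr : Module.finrank (S.presheaf.stalk (genericPoint S)) (Q.presheaf.stalk (genericPoint S)) = 1) :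
    PicF.IsInvertible (RefHull.ddual Q) := by
  haveI := isNoetherian_of_proper (k := k) (X := S)
  let η := genericPoint S
  let _ : Field (S.presheaf.stalk η) := inferInstanceAs (Field S.functionField)
  haveI := AssSch12.finite_stalk hQ η
  have hD := RefHullLib.isCoh_ddual hQ
  haveI := AssSch12.finite_stalk hD η
  have hDr : Module.finrank (S.presheaf.stalk η) ((RefHull.ddual Q).presheaf.stalk η) = 1 :=
    (LinearEquiv.ofBijective (RefHull.stalkMapₗ (RefHull.bidualMap Q) η)
      (RefHullLib.bijective_stalk_bidualMap_genericPoint hQ)).finrank_eq.symm.trans hr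
  obtain ⟨t₀, ht₀⟩ := (finrank_eq_one_iff' (K := S.presheaf.stalk η) (V := (RefHull.ddual Q).presheaf.stalk η)).1 hDr
  exact RefHullLib.isInvertible_of_isReflexive_of_genInvertible
    (fun x => haveI := regular k x; CAlgH3.ufm_of_regular (S.presheaf.stalk x)) hD
    (RefHullLib.isReflexiveAt_ddual hQ) (RefHullLib.genInvertible_of_bijective_genericPoint hD t₀
      ⟨fun x y h => smul_left_injective (S.presheaf.stalk η) ht₀.1 h, fun v => ht₀.2 v⟩)

include k in
theorem bidual_surjective {Q : S.Modules} (hQ : Coh.IsCoh Q) {y : S}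
    (hy : ringKrullDim (S.presheaf.stalk y) ≤ 1) :
    Function.Surjective (RefHull.stalkMapₗ (RefHull.bidualMap Q) y) := by
  haveI := isNoetherian_of_proper (k := k) (X := S)
  haveI := regular k y
  haveI := AssSch12.finite_stalk hQ y
  exact RefHullLib.stalk_bidualMap_surjective hQ y
    (RefHullLib.free_of_torsionFree_of_dim_le_one hy RefHullLib.isTorsionFree_quotient_torsion)

include k hdim in
/-- Off finitely many points a rank one torsion-free module is its hull. -/
theorem dim_cokernel_bidual {Q : S.Modules} (hQ : Coh.IsCoh Q) :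
    topologicalKrullDim (CohB1.support (cokernel (RefHull.bidualMap Q))) ≤ (0 : ℕ) := by
  haveI := isNoetherian_of_proper (k := k) (X := S)
  let β := RefHull.bidualMap Q
  have hRc : Coh.IsCoh (cokernel β) := isCoh_cokernel _ hQ.1 (RefHullLib.isCoh_ddual hQ)
  have hz : ∀ y : S, Function.Surjective (RefHull.stalkMapₗ β y) → y ∉ CohB1.support (cokernel β) :=
    fun y hy hmem => hmem (subsingleton_of_forall_eq 0 fun x => by
      obtain ⟨d, rfl⟩ := (ModuleCat.epi_iff_surjective
        ((DerSch.stalkFunctor S y).map (cokernel.π β))).1 inferInstance x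
      obtain ⟨q, rfl⟩ := hy d
      refine (stalk_comp_apply β (cokernel.π β) q).trans ?_
      rw [cokernel.condition]
      exact stalk_zero_apply _)
  have h1 := dim_le_one hdim hRc (hz _ (RefHullLib.bijective_stalk_bidualMap_genericPoint hQ).2)
  by_contra hd0
  obtain ⟨ξ, hξT, hξ⟩ := exists_curve k (isClosed_support _ (locallyFinGen_of_isFT _ hRc.2)) h1 hd0
  exact hz ξ (bidual_surjective k hQ (S15853.stalk_dim_le_one k hdim hξ)) hξT

include k hdim hL in
/-- The class and first coefficient of an invertible module. -/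
theorem exists_degree [PicGrp.Law S] (hgen : ∀ c : PicLoc.PicSet S, ∃ n : ℤ, c = PicGrp.cls L hL.1 ^ n)
    {D : S.Modules} (hD : PicF.IsInvertible D) {PD PO : ℚ[X]} (hPD : ShStab.IsHilbPoly k S L D PD)
    (hPO : ShStab.IsHilbPoly k S L (Coh.structureModule S) PO) :
    ∃ z : ℤ, PicGrp.cls D hD = PicGrp.cls L hL.1 ^ z ∧ alpha 1 PD = alpha 1 PO + (z : ℚ) * alpha 2 PO ∧
      alpha 2 PD = alpha 2 PO := by
  haveI := isNoetherian_of_proper (k := k) (X := S)
  have hOc : Coh.IsCoh (Coh.structureModule S) := Coherent.isCoh_structureModule S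
  have hDc := CohBC.isCoh_of_isFinLocFree (Coherent.isFinLocFree_of_invertible hD)
  obtain ⟨z, hz⟩ := hgen (PicGrp.cls D hD)
  refine ⟨z, hz, ?_⟩
  cases z with
  | ofNat n =>
    have hz' : PicGrp.cls D hD = PicGrp.cls L hL.1 ^ n := by simpa using hz
    obtain ⟨e⟩ := (PicGrp.cl_eq_cl_iff _ _).1 ((congrArg Subtype.val hz').trans (PicGrp.cls_pow_val hL.1 n))
    have hmk : InvCl.mk D hD = InvCl.mk L hL.1 ^ n :=
      (InvCl.mk_eq hD (AmpleLib.isInvertible_tensorPow hL.1 n) e).trans (InvCl.mk_tensorPow hL.1 n)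
    have e1 := alpha_comp_shift (natDegree_le k hOc hdim hL.1 hPO) n
    rw [← poly_of_mk_eq_pow k hD hPD hPO hmk] at e1
    exact ⟨by rw [e1.2]; norm_cast, e1.1⟩
  | negSucc n =>
    have hz' : PicGrp.cls D hD * PicGrp.cls L hL.1 ^ (n + 1) = 1 := by
      rw [hz, zpow_negSucc, inv_mul_cancel]
    have hv := congrArg Subtype.val hz'
    rw [PicGrp.mul_val, PicGrp.cls_pow_val, PicGrp.cls_val, PicGrp.mulCl_cl, PicGrp.one_val] at hv
    obtain ⟨e⟩ := (PicGrp.cl_eq_cl_iff _ _).1 hv
    have hmk : InvCl.mk D hD * InvCl.mk L hL.1 ^ (n + 1) = 1 := by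
      rw [← InvCl.mk_tensorPow hL.1 (n + 1), InvCl.mk_mul]
      exact InvCl.mk_eq _ _ e
    have hs' := alpha_comp_shift (natDegree_le k hDc hdim hL.1 hPD) ((n + 1 : ℕ) : ℚ)
    rw [← poly_of_mk_mul_pow k hD hPD hPO hmk] at hs'
    refine ⟨?_, hs'.1.symm⟩
    rw [hs'.2, hs'.1, Int.cast_negSucc]
    ring

include k hdim hL in
/-- With trivial canonical module the structure sheaf has vanishing first coefficient. -/
theorem alpha_one_structure (hK : Canon.IsTopDiff (S ↘ Spec (CommRingCat.of k)) 2 (Coh.structureModule S))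
    {PO : ℚ[X]} (hPO : ShStab.IsHilbPoly k S L (Coh.structureModule S) PO) : alpha 1 PO = 0 := by
  haveI := isNoetherian_of_proper (k := k) (X := S)
  have hX : topologicalKrullDim S = ((2 : ℕ) : WithBot ℕ∞) := hdim
  have hOi := AmpleLib.isInvertible_structureModule (X := S)
  have hLi := hL.1
  have hrr : ∀ m : ℕ, 2 * PO.eval (m : ℚ) =
      (Surf15.B k (InvCl.mk L hLi) (InvCl.mk L hLi) : ℚ) * (m : ℚ) ^ 2 + 2 * (Curv2.euler k S (Coh.structureModule S) : ℚ) := fun m => by
    have h := Surf15.riemannRoch_cl k hX hK hOi (InvCl.mk L hLi ^ m)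
    rw [eval_eq_chiCl k hLi hOi hPO m]
    have e1 : InvCl.mk (Coh.structureModule S) hOi * InvCl.mk L hLi ^ m = InvCl.mk L hLi ^ m := one_mul _
    have e2 : InvCl.mk (Coh.structureModule S) hOi = (1 : InvCl S) := rfl
    rw [e1]
    rw [e2, Surf15.B_one_right k hX.le, Surf15.B_pow_left k hX.le, Surf15.B_comm k,
      Surf15.B_pow_left k hX.le, chiCl_one, sub_zero] at h
    have h' := congrArg (Int.cast (R := ℚ)) h
    push_cast at h'
    rw [h']
    ring
  have hp : C (2 : ℚ) * PO = C ((Surf15.B k (InvCl.mk L hLi) (InvCl.mk L hLi) : ℚ)) * Polynomial.X ^ 2 +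
      C (2 * (Curv2.euler k S (Coh.structureModule S) : ℚ)) := poly_ext fun m => by
    simp only [Polynomial.eval_mul, Polynomial.eval_C, Polynomial.eval_add, Polynomial.eval_pow, Polynomial.eval_X]
    exact hrr m
  have h1 := congrArg (fun Q : ℚ[X] => Q.coeff 1) hp
  simp only [Polynomial.coeff_C_mul, Polynomial.coeff_add, Polynomial.coeff_X_pow, Polynomial.coeff_C] at h1
  norm_num at h1
  simp [alpha, h1]

include k in
/-- The kernel of a map of a locally free module to a reflexive one is invertible when it has rank one. -/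
theorem isInvertible_kernel {V Q : S.Modules} (hV : Coh.IsCoh V) (hVr : ∀ x, RefHull.IsReflexiveAt V x)
    (hQ : Coh.IsCoh Q) (hQr : ∀ x, RefHull.IsReflexiveAt Q x) (f : V ⟶ Q)
    (hr : Module.finrank (S.presheaf.stalk (genericPoint S)) ((kernel f).presheaf.stalk (genericPoint S)) = 1) :
    PicF.IsInvertible (kernel f) := by
  haveI := isNoetherian_of_proper (k := k) (X := S)
  let η := genericPoint S
  let F := kernel f
  let κ := kernel.ι f
  have hF : Coh.IsCoh F := isCoh_kernel f hV hQ.1
  have hDi := isInvertible_ddual k hF hr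
  let β := RefHull.bidualMap F
  have hDc := RefHullLib.isCoh_ddual hF
  let e := LinearEquiv.ofBijective (RefHull.stalkMapₗ β η) (RefHullLib.bijective_stalk_bidualMap_genericPoint hF)
  obtain ⟨μ, hμ⟩ := RefHullLib.exists_hom_of_genericMap (normal k) hV hVr
    ((RefHull.stalkMapₗ κ η).comp e.symm.toLinearMap) fun y hy v => by
      obtain ⟨w, rfl⟩ := bidual_surjective k hF hy.le v
      refine ⟨RefHull.stalkMapₗ κ y w, ?_⟩
      rw [RefHullLib.toGen_stalkMap, RefHullLib.toGen_stalkMap]
      exact congrArg (RefHull.stalkMapₗ κ η) (e.symm_apply_apply _).symm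
  have h1 : β ≫ μ = κ := RefHullLib.hom_ext_genericPoint hV hVr (LinearMap.ext fun v => by
    rw [stalkMapₗ_comp, hμ]
    exact congrArg (RefHull.stalkMapₗ κ η) (e.symm_apply_apply v))
  have h2 : μ ≫ f = 0 := RefHullLib.hom_ext_genericPoint hQ hQr (LinearMap.ext fun v => by
    rw [stalkMapₗ_comp, hμ]
    show RefHull.stalkMapₗ f η (RefHull.stalkMapₗ κ η (e.symm v)) = _
    rw [← stalkMapₗ_comp, kernel.condition]
    exact (stalk_zero_apply _).trans (stalk_zero_apply _).symm)
  haveI : Mono μ := by
    have hKc : Coh.IsCoh (kernel μ) := isCoh_kernel μ hDc hV.1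
    refine Preadditive.mono_of_isZero_kernel _ (isZero_of_torsionFree hKc.1
      (Surf15.isTorsionFree_of_mono (kernel.ι μ) (isTorsionFree_of_invertible hDi))
      fun h => h (subsingleton_of_forall_eq 0 fun x => ?_))
    let d := (DerSch.stalkFunctor S η).map (kernel.ι μ) x
    have h0 : RefHull.stalkMapₗ μ η d = 0 := by
      show (DerSch.stalkFunctor S η).map μ ((DerSch.stalkFunctor S η).map (kernel.ι μ) x) = 0
      rw [stalk_comp_apply, kernel.condition]
      exact stalk_zero_apply _
    rw [hμ] at h0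
    have h3 : e.symm d = 0 := (ModuleCat.mono_iff_injective ((DerSch.stalkFunctor S η).map κ)).1 inferInstance
      (h0.trans (map_zero _).symm)
    have h4 : d = 0 := e.symm.injective (h3.trans (map_zero _).symm)
    exact (ModuleCat.mono_iff_injective ((DerSch.stalkFunctor S η).map (kernel.ι μ))).1 inferInstance
      (h4.trans (map_zero _).symm)
  let l := kernel.lift f μ h2
  have hl : l ≫ κ = μ := kernel.lift_ι _ _ _
  haveI : Mono l := mono_of_mono_fac hl
  have hbl : β ≫ l = 𝟙 F := by rw [← cancel_mono κ, Category.assoc, hl, h1, Category.id_comp]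
  haveI : IsSplitEpi l := IsSplitEpi.mk' ⟨β, hbl⟩
  haveI : IsIso l := isIso_of_mono_of_epi l
  exact glocus_isInvertible_of_iso (asIso l) hDi

end Groth.Agent.Mod22.RankOneHull
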