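import Groth.Agent.RefHullLib.ClassLaw
import Groth.Agent.RefHullLib.DivSheaf
import Groth.Agent.CAlgH3.InvertibleDivisor
import Groth.Agent.CycLib28.MultLocal
import Groth.Agent.CycLib28.StalkIdeal
import Groth.Agent.CycLib28.PushStalk
import Groth.Agent.CurveRR24.PointInv
import Groth.Agent.SplitP1.Split
import Groth.Agent.S8914

/-!
# Orders of an effective Cartier divisor and the cokernel of an elementary modification
-/

set_option autoImplicit false
set_option linter.style.haveILetI false
set_option linter.unusedSectionVars false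
set_option backward.isDefEq.respectTransparency.types false
universe u

open CategoryTheory CategoryTheory.Limits AlgebraicGeometry Opposite TopologicalSpace
open Groth.Agent.Coherent Groth.Agent.PicLib Groth.Agent.RefHullLib

namespace Groth.Agent.Mod22

variable {X : Scheme.{u}} [IsIntegral X] [IsLocallyNoetherian X] {I : X.IdealSheafData}

local notation "η" => genericPoint X

theorem isDVR_of_coheight (hX : Pi1.IsNormalScheme X) {y : X} (hy : Order.coheight y = 1) :
    ∃ (_ : IsDomain (X.presheaf.stalk y)), IsDiscreteValuationRing (X.presheaf.stalk y) := by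
  haveI := (hX y).1
  haveI := (hX y).2
  have hdim : ringKrullDim (X.presheaf.stalk y) = 1 := (ringKrullDim_eq_one_iff_coheight y).2 hy
  haveI : IsRegularLocalRing (X.presheaf.stalk y) := CAlgH3.isRegularLocalRing_of_normal_dim_le_one hdim.le
  exact CAlgMisc2.dvr_iff.2
    ⟨spanFinrank_le_of_dim_le (R := X.presheaf.stalk y) (k := 1) (by exact_mod_cast hdim.le), hdim⟩

theorem ord_irreducible (hX : Pi1.IsNormalScheme X) {y : X} (hy : Order.coheight y = 1) {π : X.presheaf.stalk y}
    (hπ : Irreducible π) : Scheme.ord (algebraMap (X.presheaf.stalk y) X.functionField π) y = 1 := by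
  obtain ⟨_, hdvr⟩ := isDVR_of_coheight hX hy
  haveI : Ring.KrullDimLE 1 (X.presheaf.stalk y) := krullDimLE_of_coheight_le hy.le
  have hne : algebraMap (X.presheaf.stalk y) X.functionField π ≠ 0 :=
    (map_ne_zero_iff _ (IsFractionRing.injective _ _)).2 hπ.ne_zero
  exact (Scheme.ord_eq_iff hy hne).2 (Ring.ordFrac_irreducible hπ)

theorem ord_unit {y : X} (hy : Order.coheight y = 1) {v : X.presheaf.stalk y} (hv : IsUnit v) :
    Scheme.ord (algebraMap (X.presheaf.stalk y) X.functionField v) y = 0 := by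
  haveI : Ring.KrullDimLE 1 (X.presheaf.stalk y) := krullDimLE_of_coheight_le hy.le
  have hne : algebraMap (X.presheaf.stalk y) X.functionField v ≠ 0 :=
    (map_ne_zero_iff _ (IsFractionRing.injective _ _)).2 hv.ne_zero
  exact (Scheme.ord_eq_iff hy hne).2 (Ring.ordFrac_of_isUnit hv)

/-- A local equation of the divisor. -/
theorem exists_localEquation (hI : BlowUp.IsEffCartierIdeal I) (y : X) :
    ∃ (U : X.affineOpens) (hy : y ∈ U.1) (f : Γ(X, U.1)) (k : Γ(ClSub.idealMod I, U.1)),
      I.ideal U = Ideal.span {f} ∧ f ≠ 0 ∧ IsGen (ClSub.idealMod I) U.1 k ∧ (ClSub.idealModι I).app U.1 k = f := by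
  obtain ⟨U, hyU, f, hf, hfI⟩ := hI y
  obtain ⟨k, hk⟩ := (AmpleLib.mem_range_idealModι I U.1 f).2
    (RingHom.mem_ker.1 ((I.ker_subschemeι_app U).symm ▸ hfI.ge (Ideal.mem_span_singleton_self f)))
  haveI : Nonempty U.1 := ⟨⟨y, hyU⟩⟩
  haveI := IsIntegral.component_integral (X := X) U.1
  exact ⟨U, hyU, f, k, hfI, nonZeroDivisors.ne_zero hf,
    CurveRR24.bijective_smul_of_affine_gen I U.2 hk (isRegular_iff_mem_nonZeroDivisors.2 hf).left hfI, hk⟩

theorem germ_eq_zero_iff {U : X.Opens} {y : X} (hy : y ∈ U) (f : Γ(X, U)) :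
    X.presheaf.germ U y hy f = 0 ↔ f = 0 :=
  ⟨fun h => germ_injective_of_isIntegral X y hy (h.trans (map_zero _).symm), fun h => by rw [h, map_zero]⟩

theorem isUnit_germ_iff (U : X.affineOpens) {y : X} (hy : y ∈ U.1) (f : Γ(X, U.1)) (hfI : I.ideal U = Ideal.span {f}) :
    IsUnit (X.presheaf.germ U.1 y hy f) ↔ y ∉ (I.support : Set X) := by
  rw [← X.mem_basicOpen f y hy]
  constructor
  · intro h hs
    have h1 := CycLib28.stalkIdeal_le_maximal I hs
    rw [CycLib28.stalkIdeal_eq_map I hs U hy, hfI, Ideal.map_span, Set.image_singleton, Ideal.span_le,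
      Set.singleton_subset_iff] at h1
    exact h1 ((X.mem_basicOpen f y hy).1 h)
  · intro hs
    by_contra h
    apply hs
    have hmem : y ∈ (I.support : Set X) ∩ (U.1 : Set X) := by
      rw [I.coe_support_inter U, hfI]
      refine ⟨?_, hy⟩
      rw [Scheme.zeroLocus_span, Scheme.zeroLocus_singleton]
      exact h
    exact hmem.1

theorem genericPoint_notMem_support (hI : BlowUp.IsEffCartierIdeal I) : (η : X) ∉ (I.support : Set X) := by
  obtain ⟨U, hηU, f, k, hfI, hf, -, -⟩ := exists_localEquation hI η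
  rw [← isUnit_germ_iff U hηU f hfI]
  letI : Field (X.presheaf.stalk η) := isField_stalk_genericPoint.toField
  exact (Ne.isUnit fun h => hf ((germ_eq_zero_iff hηU f).1 h))

/-- At a codimension one point of an integral divisor, a local equation is a uniformizer. -/
theorem irreducible_germ [IsIntegral I.subscheme] (hX : Pi1.IsNormalScheme X) (U : X.affineOpens) {y : X}
    (hy : y ∈ U.1) (hy1 : Order.coheight y = 1) (f : Γ(X, U.1)) (hfI : I.ideal U = Ideal.span {f}) (hf : f ≠ 0)
    (hs : y ∈ (I.support : Set X)) : Irreducible (X.presheaf.germ U.1 y hy f) := by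
  haveI := (hX y).1
  have hdom := CycLib28.isDomain_quot I hs
  rw [CycLib28.stalkIdeal_eq_map I hs U hy, hfI, Ideal.map_span, Set.image_singleton] at hdom
  have hp := (Ideal.Quotient.isDomain_iff_prime _).1 hdom
  exact ((Ideal.span_singleton_prime fun h => hf ((germ_eq_zero_iff hy f).1 h)).1 hp).irreducible

/-- The tautological rational section of the ideal of an effective Cartier divisor. -/
theorem exists_idealSection [IsIntegral I.subscheme] (hX : Pi1.IsNormalScheme X) (hI : BlowUp.IsEffCartierIdeal I) :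
    ∃ s : (ClSub.idealMod I).presheaf.stalk η, s ≠ 0 ∧ ∀ y : X, Order.coheight y = 1 →
      (y ∈ (I.support : Set X) → sOrd (ClSub.idealMod I) y s = -1) ∧
      (y ∉ (I.support : Set X) → sOrd (ClSub.idealMod I) y s = 0) := by
  haveI := AmpleLib.mono_idealModι I
  let ι' := RefHull.stalkMapₗ (ClSub.idealModι I) η
  let e := SDiv28.unitStalkEquiv (η : X)
  obtain ⟨U, hηU, f, k, hfI, hf, hk, hkf⟩ := exists_localEquation hI η
  let fη : X.functionField := X.presheaf.germ U.1 η hηU f
  have hfη : fη ≠ 0 := fun h => hf ((germ_eq_zero_iff hηU f).1 h)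
  have hι : ∀ {V : X.affineOpens} (hV : η ∈ V.1) (g : Γ(X, V.1)) (l : Γ(ClSub.idealMod I, V.1)),
      (ClSub.idealModι I).app V.1 l = g →
        ι' ((ClSub.idealMod I).presheaf.germ V.1 η hV l) =
          (X.presheaf.germ V.1 η hV g) • AssSch12.unitOne (η : X) := fun {V} hV g l hl => by
    show RefHull.stalkMapₗ (ClSub.idealModι I) η _ = _
    rw [RefHull.stalkMapₗ_germ, hl]
    exact AssSch12.germ_eq_smul_unitOne (η : X) hV g
  let s : (ClSub.idealMod I).presheaf.stalk η := fη⁻¹ • (ClSub.idealMod I).presheaf.germ U.1 η hηU k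
  have hs : ι' s = AssSch12.unitOne (η : X) := by
    show ι' (fη⁻¹ • _) = _
    rw [map_smul, hι hηU f k hkf]
    exact (mul_smul fη⁻¹ fη _).symm.trans (by rw [inv_mul_cancel₀ hfη]; exact one_smul _ _)
  refine ⟨s, fun h => ?_, fun y hy => ?_⟩
  · rw [h, map_zero] at hs
    exact unitOne_ne_zero hs.symm
  obtain ⟨V, hyV, g, l, hgI, hg, hl, hlg⟩ := exists_localEquation hI y
  have hηV : η ∈ V.1 := genericPoint_mem_of_mem hyV
  let gη : X.functionField := X.presheaf.germ V.1 η hηV g
  have hgη : gη ≠ 0 := fun h => hg ((germ_eq_zero_iff hηV g).1 h)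
  have hbj := SDiv28.bijective_smul_germ_gen hl hyV
  have hqc : Coh.IsQCoh (ClSub.idealMod I) :=
    (PicLib.isCoh_of_isInvertible ((Groth.Agent.S8914.result I).2 hI)).1
  have hbη : Function.Bijective fun a : X.presheaf.stalk η => a • (ClSub.idealMod I).presheaf.germ V.1 η hηV l :=
    SDiv28.bijective_smul_germ_gen hl hηV
  have hc : gη⁻¹ • (ClSub.idealMod I).presheaf.germ V.1 η hηV l = s := by
    obtain ⟨c, hc⟩ := hbη.2 s
    dsimp only at hc
    have h1 := congrArg ι' hc
    rw [map_smul, hs, hι hηV g l hlg] at h1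
    have h2 : (c * gη) • AssSch12.unitOne (η : X) = (1 : X.presheaf.stalk η) • AssSch12.unitOne (η : X) := by
      rw [one_smul]; exact (mul_smul c gη _).trans h1
    rw [← hc]
    exact congrArg (fun a : X.functionField => a • (ClSub.idealMod I).presheaf.germ V.1 η hηV l)
      (eq_inv_of_mul_eq_one_left ((bijective_smul_unitOne (η : X)).1 h2)).symm
  have hord : sOrd (ClSub.idealMod I) y s = - Scheme.ord gη y := by
    rw [sOrd_eq hqc hy hbj gη⁻¹ s (by rw [toGen_germ]; exact hc)]
    have h := Scheme.ord_mul (x := y) hgη (inv_ne_zero hgη)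
    rw [mul_inv_cancel₀ hgη, (Scheme.ord_eq_iff hy one_ne_zero).2 (map_one _)] at h
    omega
  have hgy : gη = algebraMap (X.presheaf.stalk y) X.functionField (X.presheaf.germ V.1 y hyV g) :=
    (algebraMap_germ hyV g).symm
  refine ⟨fun hsup => ?_, fun hsup => ?_⟩
  · rw [hord, hgy, ord_irreducible hX hy (irreducible_germ hX V hyV hy g hgI hg hsup)]
  · rw [hord, hgy, ord_unit hy ((isUnit_germ_iff V hyV g hgI).2 hsup), neg_zero]

/-- The stalk of the direct image of a locally free module of rank `s` on an integral divisor is killed by a local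
equation and generated by `s` elements. -/
theorem stalk_push_gens (U : X.affineOpens) {y : X} (hy : y ∈ U.1) (f : Γ(X, U.1))
    (hfI : I.ideal U = Ideal.span {f}) (hs : y ∈ (I.support : Set X)) {s : ℕ} {G : I.subscheme.Modules}
    (hG : FlatMod.IsFinLocFreeOfRank s G) :
    (∀ m : ((Scheme.Modules.pushforward I.subschemeι).obj G).presheaf.stalk y,
      X.presheaf.germ U.1 y hy f • m = 0) ∧
    ∃ g : Fin s → ((Scheme.Modules.pushforward I.subschemeι).obj G).presheaf.stalk y,
      Submodule.span (X.presheaf.stalk y) (Set.range g) = ⊤ := by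
  obtain ⟨z, rfl⟩ := I.range_subschemeι.ge hs
  let i := I.subschemeι
  haveI : IsIso (CycLib28.pushStalkHom i G z) :=
    TopCat.Presheaf.stalkPushforward.stalkPushforward_iso_of_isInducing Ab.{u} i.isClosedEmbedding.isInducing G.presheaf z
  have hb : Function.Bijective (CycLib28.pushStalkHom i G z) := ConcreteCategory.bijective_of_isIso _
  have hker : X.presheaf.germ U.1 (i z) hy f ∈ RingHom.ker (i.stalkMap z).hom := by
    rw [← CycLib28.stalkIdeal_eq_ker, CycLib28.stalkIdeal_eq_map I hs U hy, hfI, Ideal.map_span, Set.image_singleton]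
    exact Ideal.mem_span_singleton_self _
  refine ⟨fun m => hb.1 ?_, ?_⟩
  · show CycLib28.pushStalkHom i G z _ = CycLib28.pushStalkHom i G z 0
    rw [CycLib28.pushStalkHom_smul, RingHom.mem_ker.1 hker, zero_smul, map_zero]
  obtain ⟨c⟩ := SplitP1.nonempty_basis_stalk hG z
  choose g hg using fun j => hb.2 (c j)
  refine ⟨g, eq_top_iff.2 fun m _ => ?_⟩
  choose a ha using fun j => i.stalkMap_surjective z (c.repr (CycLib28.pushStalkHom i G z m) j)
  have h : m = ∑ j, a j • g j := hb.1 (by
    show CycLib28.pushStalkHom i G z m = CycLib28.pushStalkHom i G z (∑ j, a j • g j)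
    rw [map_sum]
    refine (c.sum_repr _).symm.trans (Finset.sum_congr rfl fun j _ => ?_)
    refine ((CycLib28.pushStalkHom_smul i G z (a j) (g j)).trans ?_).symm
    rw [hg, ha])
  rw [h]
  exact Submodule.sum_mem _ fun j _ => Submodule.smul_mem _ _ (Submodule.subset_span ⟨j, rfl⟩)

end Groth.Agent.Mod22
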