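import Groth.Agent.Mod22.HomologyOne
import Groth.Agent.Mod22.CMDual
import Groth.Agent.SerreDual.ExtShRep
import Groth.Agent.SerreDual.ExtShDivisor
import Groth.Agent.SerreDual.PushEquiv
import Groth.Agent.Coherent.TensorQcoh
import Groth.Agent.EGA43.InjFibre.Scheme
import Groth.Agent.FlatMor12.HomQCoh

/-!
# First sheaf `Ext` out of modules on a closed subscheme
-/

set_option autoImplicit false
set_option linter.style.haveILetI false
set_option backward.isDefEq.respectTransparency.types false

universe u

open CategoryTheory CategoryTheory.Abelian CategoryTheory.Limits AlgebraicGeometry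
open Groth.Agent.Coherent Groth.Agent.PicLib Groth.Agent.AmpleLib Groth.Agent.EulerLib Groth.Agent.SerreDual

namespace Groth.Agent.Mod22.ExtPush

variable {X Y : Scheme.{u}} (j : X ⟶ Y) [IsClosedImmersion j]

/-- `Hom(j_* M, -) = j_* Hom(M, j^! -)`. -/
noncomputable def pushHomIso (M : X.Modules) :
    internalHomFunctor ((Scheme.Modules.pushforward j).obj M) ≅
      (shriekR j ⋙ internalHomFunctor M) ⋙ Scheme.Modules.pushforward j :=
  ((tensorHomAdj ((Scheme.Modules.pushforward j).obj M)).ofNatIsoLeft
    (NatIso.ofComponents (fun N => @asIso _ _ _ _ _ (DCat.ClosedPush.isIso_projMap j M N)) (fun {N N'} ψ =>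
      DCat.ClosedPush.projMap_nat₂ j M ψ) :
      tensE ((Scheme.Modules.pushforward j).obj M) ≅
        Scheme.Modules.pullback j ⋙ tensE M ⋙ Scheme.Modules.pushforward j)).rightAdjointUniq
    ((Scheme.Modules.pullbackPushforwardAdjunction j).comp ((tensorHomAdj M).comp (shriekAdj j)))

variable {G : Y.Modules} (J : InjectiveResolution G)

/-- The complex computing `j^!`. -/
noncomputable abbrev shriekCx : CochainComplex X.Modules ℕ :=
  haveI : (shriekR j).Additive :=
    haveI : (Scheme.Modules.pushforward j).Additive := inferInstance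
    (shriekAdj j).right_adjoint_additive
  ((shriekR j).mapHomologicalComplex (ComplexShape.up ℕ)).obj J.cocomplex

theorem pushforward_exact :
    PreservesFiniteLimits (Scheme.Modules.pushforward j) ∧ PreservesFiniteColimits (Scheme.Modules.pushforward j) := by
  haveI : (Scheme.Modules.pushforward j).IsLeftAdjoint := (shriekAdj j).isLeftAdjoint
  haveI : (Scheme.Modules.pushforward j).IsRightAdjoint :=
    (Scheme.Modules.pullbackPushforwardAdjunction j).isRightAdjoint
  exact ⟨inferInstance, inferInstance⟩

theorem injective_shriekCx (q : ℕ) : Injective ((shriekCx j J).X q) := by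
  haveI := (pushforward_exact j).1
  haveI : (Scheme.Modules.pushforward j).PreservesMonomorphisms := inferInstance
  haveI := J.injective q
  exact (shriekAdj j).map_injective _ (J.injective q)

/-- `Ext¹(j_* M, G) = j_* Hom(M, H¹ j^!)` when `H⁰ j^! = 0`. -/
theorem nonempty_homology_one_iso_push (M : X.Modules) (h0 : IsZero ((shriekCx j J).homology 0)) :
    Nonempty ((homCx ((Scheme.Modules.pushforward j).obj M) J).homology 1 ≅
      (Scheme.Modules.pushforward j).obj (internalHom M ((shriekCx j J).homology 1))) := by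
  obtain ⟨_, _⟩ := pushforward_exact j
  let P := Scheme.Modules.pushforward j
  haveI : P.Additive := Functor.additive_of_preserves_binary_products P
  haveI : (shriekR j).Additive := (shriekAdj j).right_adjoint_additive
  haveI : (internalHomFunctor M).Additive := additive_internalHomFunctor M
  haveI := preservesFiniteLimits_internalHom M
  haveI : (internalHomFunctor (P.obj M)).Additive := additive_internalHomFunctor _
  obtain ⟨e⟩ := Mod22.HomologyOne.nonempty_homology_one_map (internalHomFunctor M) (shriekCx j J)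
    (injective_shriekCx j J) h0
  let L := ((internalHomFunctor M).mapHomologicalComplex (ComplexShape.up ℕ)).obj (shriekCx j J)
  exact ⟨(HomologicalComplex.homologyFunctor _ (ComplexShape.up ℕ) 1).mapIso
      ((NatIso.mapHomologicalComplex (pushHomIso j M) (ComplexShape.up ℕ)).app J.cocomplex) ≪≫
    ((L.sc 1).mapHomologyIso P) ≪≫ P.mapIso e⟩

variable (k : Type u) [Field k] [Y.Over (Spec (CommRingCat.of k))] [IsProper (Y ↘ Spec (CommRingCat.of k))]

attribute [local instance] HasDerivedCategory.standard

/-- For a closed subscheme of smaller dimension of a Cohen-Macaulay scheme the first sheaf `Ext` is dualizing. -/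
theorem exists_dualizing (n : ℕ) (hn : topologicalKrullDim ↥Y = n)
    (hCM : ∀ x : Y, LocCoh.IsCohenMacaulayLocalRing (Y.presheaf.stalk x))
    (heq : ∀ x : Y, IsClosed ({x} : Set ↥Y) → ringKrullDim (Y.presheaf.stalk x) = n)
    [Coh.IsQCoh G] (t : Coh.HH Y G n →ₗ[k] k) (ht : ∀ F : Y.Modules, Coh.IsQCoh F → Rep t F)
    (hn1 : 1 ≤ n) (hd : topologicalKrullDim ↥X ≤ ((n - 1 : ℕ) : WithBot ℕ∞))
    (hq : Coh.IsQCoh ((homCx ((Coh.push j).obj (Coh.structureModule X)) J).homology 1)) :
    IsZero ((shriekCx j J).homology 0) ∧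
      (letI : X.Over (Spec (CommRingCat.of k)) := ⟨j ≫ (Y ↘ Spec (CommRingCat.of k))⟩
       Coh.IsQCoh ((shriekCx j J).homology 1) ∧
        ∃ t' : Coh.HH X ((shriekCx j J).homology 1) (n - 1) →ₗ[k] k,
          ∀ F : X.Modules, Coh.IsQCoh F → Rep t' F) := by
  letI : X.Over (Spec (CommRingCat.of k)) := ⟨j ≫ (Y ↘ Spec (CommRingCat.of k))⟩
  haveI : IsProper (X ↘ Spec (CommRingCat.of k)) :=
    inferInstanceAs (IsProper (j ≫ (Y ↘ Spec (CommRingCat.of k))))
  haveI := isNoetherian_of_proper (k := k) (X := Y)
  haveI := isNoetherian_of_proper (k := k) (X := X)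
  haveI := isSeparated_of_proper (X := Y) k
  haveI := isSeparated_of_proper (X := X) k
  haveI : HasExt.{u} Y.Modules :=
    haveI : IsGrothendieckAbelian.{u} Y.Modules := DCat.schemeModules_isGrothendieckAbelian _
    inferInstance
  haveI := DCat.hasRpush (Y ↘ Spec (CommRingCat.of k))
  obtain ⟨_, _⟩ := pushforward_exact j
  let q := Scheme.Modules.pushforward j
  haveI : q.Additive := Functor.additive_of_preserves_binary_products q
  haveI : q.Faithful := (pushFF j).faithful
  haveI : (shriekR j).Additive := (shriekAdj j).right_adjoint_additive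
  haveI : ∀ (F : X.Modules) [Coh.IsQCoh F], Coh.IsQCoh ((Coh.push j).obj F) := fun F _ => Coherent.isQCoh_push j F
  let P := (Coh.push j).obj (Coh.structureModule X)
  have hP : Coh.IsCoh P := isCoh_push_finite j (Coherent.isCoh_structureModule X)
  haveI : Coh.IsQCoh P := hP.1
  haveI : Coh.IsQCoh (internalHom P G) := FlatMor12.isQCoh_internalHom_of_isFP (isFP_of_isCoh hP)
  haveI : Coh.IsQCoh ((shriekR j).obj G) := EGA43.InjFibre.isQCoh_pullback j (internalHom P G)
  have hM : IsZero ((shriekR j).obj G) := by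
    rw [IsZero.iff_id_eq_zero]
    apply ((shriekAdj j).homEquiv ((shriekR j).obj G) G).symm.injective
    haveI : Subsingleton (Coh.HH X ((shriekR j).obj G) n) := subsingleton_HH_of_dim _ hd (by omega)
    exact (ht _ inferInstance).1 (LinearMap.ext fun x => by
      rw [show x = hpush j k rfl ((shriekR j).obj G) n ((hpush j k rfl _ n).symm x) from
        ((hpush j k rfl _ n).apply_symm_apply x).symm,
        Subsingleton.elim ((hpush j k rfl _ n).symm x) 0, map_zero, map_zero, map_zero])
  let w : (q.mapHomologicalComplex (ComplexShape.up ℕ)).obj (shriekCx j J) ≅ homCx P J :=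
    haveI : (internalHomFunctor P).Additive := additive_internalHomFunctor P
    (NatIso.mapHomologicalComplex (internalHomPushIso j) (ComplexShape.up ℕ)).symm.app J.cocomplex
  have hL : ∀ i, Nonempty (q.obj ((shriekCx j J).homology i) ≅ (homCx P J).homology i) := fun i =>
    ⟨(((shriekCx j J).sc i).mapHomologyIso q).symm ≪≫
      (HomologicalComplex.homologyFunctor _ (ComplexShape.up ℕ) i).mapIso w⟩
  have hlow : ∀ i, i < 1 → IsZero ((homCx P J).homology i) := fun i hi => by
    obtain rfl : i = 0 := by omega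
    haveI := isIso_zeroHom P J
    refine IsZero.of_iso ?_ (asIso (zeroHom P J)).symm
    exact IsZero.of_iso (q.map_isZero hM) ((internalHomPushIso j).app G)
  have h0 : IsZero ((shriekCx j J).homology 0) := by
    obtain ⟨v⟩ := hL 0
    rw [IsZero.iff_id_eq_zero]
    apply q.map_injective
    rw [q.map_id, q.map_zero]
    exact (IsZero.iff_id_eq_zero _).1 ((hlow 0 one_pos).of_iso v)
  refine ⟨h0, ?_⟩
  let ω' := (shriekCx j J).homology 1
  obtain ⟨e⟩ := hL 1
  haveI hω' : Coh.IsQCoh ω' := by
    haveI := hq
    haveI : Coh.IsQCoh (q.obj ω') := Coherent.isQCoh_of_iso e.symm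
    haveI := DCat.ClosedPush.isIso_counit j ω'
    haveI : Coh.IsQCoh ((Scheme.Modules.pullback j).obj (q.obj ω')) := EGA43.InjFibre.isQCoh_pullback j (q.obj ω')
    haveI : Coh.IsQCoh ((Scheme.Modules.pushforward j ⋙ Scheme.Modules.pullback j).obj ω') :=
      inferInstanceAs (Coh.IsQCoh ((Scheme.Modules.pullback j).obj (q.obj ω')))
    exact Coherent.isQCoh_of_iso (asIso ((Scheme.Modules.pullbackPushforwardAdjunction j).counit.app ω'))
  obtain ⟨ε, hε⟩ := exists_universal_push j J 1 hlow e
  obtain ⟨Φ, hΦ, hΦn⟩ := Mod22.CMDual.exists_extDuality k Y n hn hCM heq t ht 1 (n - 1) (by omega)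
  let t' : Coh.HH X ω' (n - 1) →ₗ[k] k :=
    Φ ((Coh.push j).obj ω') ε ∘ₗ (hpush j k rfl ω' (n - 1)).toLinearMap
  refine ⟨hω', t', fun F hF => ?_⟩
  haveI := hF
  have hb : Function.Bijective fun φ : F ⟶ ω' =>
      Φ ((Coh.push j).obj F) ((Ext.mk₀ ((Coh.push j).map φ)).comp ε (zero_add 1)) ∘ₗ
        (hpush j k rfl F (n - 1)).toLinearMap :=
    (hpush j k rfl F (n - 1)).dualMap.bijective.comp ((hΦ _ inferInstance).comp (hε F))
  refine (congrArg Function.Bijective (funext fun φ => LinearMap.ext fun x => ?_)).mpr hb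
  show t' (hmap k φ (n - 1) x) = _
  rw [hΦn]
  show Φ _ ε (hpush j k rfl ω' (n - 1) (hmap k φ (n - 1) x)) = _
  rw [hpush_natural]
  rfl

end Groth.Agent.Mod22.ExtPush
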