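import Groth.Agent.TFPush7.OmegaDual
import Groth.Agent.CurveRR24.Section
import Groth.Agent.SerreDual.ExtDuality
import Groth.Agent.SerreDual.ExtShBasic
import Groth.Agent.CommAlg4.SupportZero
import Groth.Agent.Desc19b.GGFpqc
import Groth.Agent.CurvesLib24.Basic
import Groth.Agent.Coherent.Existence.HomAffine

/-!
# Global generation of the dual of a generated module on a curve
-/

set_option autoImplicit false
set_option linter.style.haveILetI false
set_option backward.isDefEq.respectTransparency.types false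
set_option maxHeartbeats 1000000

universe u

open CategoryTheory CategoryTheory.Limits AlgebraicGeometry Opposite TopologicalSpace
open Groth.Agent.Coherent Groth.Agent.PicLib Groth.Agent.AmpleLib Groth.Agent.EulerLib Groth.Agent.SerreDual

namespace Groth.Agent.Mod22.GGDual

/-- An extension of globally generated modules with all sections of the quotient lifting is generated. -/
theorem isGloballyGenerated_of_shortExact {X : Scheme.{u}} {S : ShortComplex X.Modules} (hS : S.ShortExact)
    (h1 : Curv2.IsGloballyGenerated S.X₁) (h3 : Curv2.IsGloballyGenerated S.X₃)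
    (hl : Function.Surjective (S.g.app ⊤)) : Curv2.IsGloballyGenerated S.X₂ := by
  refine ⟨Γ(S.X₂, ⊤), Desc19b.evalGlobal S.X₂, Preadditive.epi_of_cancel_zero _ fun {P : X.Modules} (h : S.X₂ ⟶ P) hh => ?_⟩
  have hw : ∀ w : Γ(S.X₂, ⊤), h.app ⊤ w = 0 := fun w => by
    have := congrArg (fun φ => Scheme.Modules.Hom.app φ ⊤ (freeBasisVec w ⊤)) hh
    simp only at this
    rw [← Desc19b.evalGlobal_basis S.X₂ w]
    exact this
  obtain ⟨J, q₁, hq₁⟩ := h1
  obtain ⟨J', q₃, hq₃⟩ := h3
  haveI : Epi (show freeMod X J ⟶ S.X₁ from q₁) := hq₁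
  haveI : Epi (show freeMod X J' ⟶ S.X₃ from q₃) := hq₃
  have hf : S.f ≫ h = 0 :=
    Desc19b.eq_zero_of_app_top (show freeMod X J ⟶ S.X₁ from q₁) _ fun w => hw (S.f.app ⊤ w)
  haveI := hS.epi_g
  let h' : S.X₃ ⟶ P := hS.exact.desc h hf
  have hg : S.g ≫ h' = h := hS.exact.g_desc h hf
  have hz : h' = 0 := Desc19b.eq_zero_of_app_top (show freeMod X J' ⟶ S.X₃ from q₃) _ fun w => by
    obtain ⟨v, rfl⟩ := hl w
    rw [← hg] at hw
    exact hw v
  rw [← hg, hz]
  exact comp_zero

variable {X : Scheme.{u}}

/-- Evaluation at a global section. -/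
noncomputable def evalAt {B ω : X.Modules} (s : Γ(B, ⊤)) : internalHom B ω ⟶ ω :=
  ⟨PresheafOfModules.homMk
    { app := fun U => AddCommGrpCat.ofHom (AddMonoidHom.mk'
        (fun θ : Γ(internalHom B ω, U.unop) => ev (secHom θ) U.unop le_rfl (resM B le_top s)) fun _ _ => rfl)
      naturality := fun {U V} i => by
        ext θ
        show ev (secHom (resM (internalHom B ω) (leOfHom i.unop) θ)) V.unop le_rfl (resM B le_top s) =
          resM ω (leOfHom i.unop) (ev (secHom θ) U.unop le_rfl (resM B le_top s))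
        rw [ev_res, resM_resM]
        rfl }
    (fun U r θ => by
      show ev (secHom ((show Γ(X, U.unop) from r) • (show Γ(internalHom B ω, U.unop) from θ))) U.unop le_rfl (resM B le_top s) =
        (show Γ(X, U.unop) from r) • ev (secHom θ) U.unop le_rfl (resM B le_top s)
      refine (ev_smul (show Γ(X, U.unop) from r) (secHom θ) U.unop le_rfl _).trans ?_
      exact congrArg (· • ev (secHom θ) U.unop le_rfl (resM B le_top s))
        (ConcreteCategory.congr_hom (X.presheaf.map_id U) (show Γ(X, U.unop) from r)))⟩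

theorem evalAt_app {B ω : X.Modules} (s : Γ(B, ⊤)) (U : X.Opens) (θ : Γ(internalHom B ω, U)) :
    (evalAt s).app U θ = ev (secHom θ) U le_rfl (resM B le_top s) := rfl

/-- The transpose of a map into the dual. -/
noncomputable def transpose {A B ω : X.Modules} (ι : B ⟶ internalHom A ω) : A ⟶ internalHom B ω :=
  (tensorHomEquiv B A ω) ((tensorComm B A).hom ≫ (uncurry ι).desc)

theorem ev_transpose {A B ω : X.Modules} (ι : B ⟶ internalHom A ω) {U : X.Opens} (a : Γ(A, U)) (W : X.Opens)
    (hW : W ≤ U) (b : Γ(B, W)) :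
    ev (secHom ((transpose ι).app U a)) W hW b = ev (secHom (ι.app W b)) W le_rfl (resM A hW a) := by
  show ((tensorComm B A).hom ≫ (uncurry ι).desc).app W (tmul b (resM A hW a)) = _
  show (uncurry ι).desc.app W ((tensorSwap B A).app W (tmul b (resM A hW a))) = _
  rw [show (tensorSwap B A).app W (tmul b (resM A hW a)) = tmul (resM A hW a) b from Bilin.desc_tmul _ W _ _,
    Bilin.desc_tmul]
  rfl

/-- Comparison of `H⁰` with global sections is natural. -/
theorem hhZero_natural {X : Scheme.{u}} (k : Type u) [Field k] [X.Over (Spec (CommRingCat.of k))]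
    {M N : X.Modules} (f : M ⟶ N) (x : Coh.HH X M 0) :
    CurveRR24.hhZero k N (SerreDual.hmap k f 0 x) =
      mapGA (baseHom k X) f (CurveRR24.hhZero k M x) := by
  unfold SerreDual.hmap CurveRR24.hhZero
  simp only [LinearEquiv.trans_apply, LinearMap.coe_comp, LinearEquiv.coe_coe, Function.comp_apply]
  rw [← secA_natural]
  exact congrArg (secA (baseHom k X) N) ((SerreDual.hBE k N 0).apply_symm_apply _)

variable {k : Type u} [Field k] [X.Over (Spec (CommRingCat.of k))]

theorem surjective_app_top_of_h1_injective [IsLocallyNoetherian X] {S : ShortComplex X.Modules} (hS : S.ShortExact)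
    (h : Function.Injective (hmap k S.f 1)) : Function.Surjective (S.g.app ⊤) := fun w => by
  let z : Coh.HH X S.X₃ 0 := (CurveRR24.hhZero k S.X₃).symm w
  have hz : hdelta (k := k) hS 0 z = 0 := h (by
    rw [map_zero]
    exact (exact_hdelta_hmap hS 0 _).2 ⟨z, rfl⟩)
  simp only [hdelta, LinearMap.coe_comp, LinearEquiv.coe_coe, Function.comp_apply, LinearEquiv.map_eq_zero_iff] at hz
  obtain ⟨y, hy⟩ := (exact_postA_deltaA (baseHom k X) hS ⊤ 0 _).1 hz
  have hy' : hmap k S.g 0 ((hBE k S.X₂ 0).symm y) = z := by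
    rw [hmap_eq]
    apply (HHBaseEquiv k S.X₃ 0).injective
    refine Eq.trans ?_ hy
    refine (hhBaseEquiv_natural k S.g 0 _).trans ?_
    exact congrArg (postA (baseHom k X) S.g ⊤ 0) ((hBE k S.X₂ 0).apply_symm_apply y)
  refine ⟨CurveRR24.hhZero k S.X₂ ((hBE k S.X₂ 0).symm y), ?_⟩
  have h2 := (hhZero_natural k S.g ((hBE k S.X₂ 0).symm y)).symm.trans (congrArg (CurveRR24.hhZero k S.X₃) hy')
  exact h2.trans ((CurveRR24.hhZero k S.X₃).apply_symm_apply w)

variable [IsProper (X ↘ Spec (CommRingCat.of k))] [IsIntegral X]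

/-- If `A` is generated and every map `A ⟶ ω` comes from a section of `B ⊆ Hom(A, ω)`, then `Hom(B, ω)` is generated. -/
theorem isGloballyGenerated_internalHom (hdim : topologicalKrullDim X = 1) {ω : X.Modules}
    (hω : Coh.IsQCoh ω) (t : Coh.HH X ω 1 →ₗ[k] k) (ht : ∀ F : X.Modules, Coh.IsQCoh F → Rep t F)
    {A B : X.Modules} (hA : Coh.IsCoh A) (hAg : Curv2.IsGloballyGenerated A) (hB : Coh.IsCoh B)
    (ι : B ⟶ internalHom A ω) (hι : Function.Surjective (ι.app ⊤))
    (hgen : Function.Surjective (RefHull.stalkMapₗ (transpose ι) (genericPoint X))) :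
    Curv2.IsGloballyGenerated (internalHom B ω) := by
  haveI := isNoetherian_of_proper k (X := X)
  haveI := isSeparated_of_proper (X := X) k
  haveI := hω
  have hωc := SerreDual.isCoh_dualizing ht hdim hω
  have hD : Coh.IsCoh (internalHom B ω) := Existence.isCoh_internalHom hB hωc
  haveI := hD.1
  haveI := hA.1
  let τ := transpose ι
  have hK : Coh.IsCoh (cokernel τ) := isCoh_cokernel _ hA.1 hD
  haveI := hK.1
  let S := ShortComplex.mk (Abelian.image.ι τ) (cokernel.π τ) (kernel.condition _)
  have hS : S.ShortExact :=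
    { exact := ShortComplex.exact_of_f_is_kernel _ (kernelIsKernel (cokernel.π τ))
      mono_f := inferInstanceAs (Mono (kernel.ι (cokernel.π τ)))
      epi_g := inferInstanceAs (Epi (cokernel.π τ)) }
  -- `H¹(A) → H¹(D)` is injective
  have hinj : Function.Injective (hmap k τ 1) := by
    haveI : Module.Free k (Coh.HH X A 1) := Module.Free.of_divisionRing k _
    haveI : Module.Projective k (Coh.HH X A 1) := Module.Projective.of_free
    refine (injective_iff_map_eq_zero _).2 fun x hx => (Module.forall_dual_apply_eq_zero_iff k x).1 fun L => ?_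
    obtain ⟨ψ, hψ⟩ := (ht A hA.1).2 L
    let θ : Γ(internalHom A ω, ⊤) := (show locHom A ω ⊤ from
      ⟨fun W _ => AddMonoidHom.mk' (fun a => ψ.app W a) (map_add (ψ.app W).hom),
        fun W _ r a => Scheme.Modules.Hom.app_smul ψ r a,
        fun W W' _ h a => (app_resM ψ h a).symm⟩)
    obtain ⟨s, hs⟩ := hι θ
    have hτ : τ ≫ evalAt s = ψ := Scheme.Modules.hom_ext _ _ fun U => ConcreteCategory.hom_ext _ _ fun a => by
      show (evalAt s).app U (τ.app U a) = ψ.app U a
      rw [evalAt_app, ev_transpose]
      have h1 := (app_resM ι (le_top : U ≤ ⊤) s)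
      rw [hs] at h1
      have h2 : ι.app U (resM B le_top s) = resM (internalHom A ω) le_top θ := by
        first
          | exact h1
          | exact h1.symm
      rw [h2, resM_self]
      rfl
    rw [← hψ]
    show t (hmap k ψ 1 x) = 0
    rw [← hτ, hmap_comp, LinearMap.comp_apply, hx, map_zero, map_zero]
  have hI : Coh.IsQCoh (Abelian.image τ) := isQCoh_kernel (cokernel.π τ)
  haveI := hI
  have hepi : Function.Surjective (hmap k (Abelian.factorThruImage τ) 1) := by
    let T := ShortComplex.mk (kernel.ι (Abelian.factorThruImage τ)) (Abelian.factorThruImage τ) (kernel.condition _)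
    have hT : T.ShortExact :=
      { exact := ShortComplex.exact_of_f_is_kernel _ (kernelIsKernel _)
        mono_f := inferInstance, epi_g := inferInstanceAs (Epi (Abelian.factorThruImage τ)) }
    haveI : Coh.IsQCoh T.X₁ := isQCoh_kernel _
    exact hmap_surjective_of_shortExact (k := k) hT 1 (subsingleton_HH_of_dim _ hdim.le (by omega))
  have hf : Function.Injective (hmap k S.f 1) := fun x y hxy => by
    obtain ⟨a, rfl⟩ := hepi x
    obtain ⟨b, rfl⟩ := hepi y
    refine congrArg _ (hinj ?_)
    have hc := fun c => LinearMap.congr_fun (hmap_comp k (Abelian.factorThruImage τ) S.f 1) c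
    rw [show hmap k τ 1 = hmap k (Abelian.factorThruImage τ ≫ S.f) 1 by rw [Abelian.image.fac], hc, hc]
    exact hxy
  refine isGloballyGenerated_of_shortExact hS ?_ ?_ (surjective_app_top_of_h1_injective hS hf)
  · obtain ⟨J, q, hq⟩ := hAg
    haveI := hq
    haveI : Epi (Abelian.factorThruImage τ) := inferInstance
    exact ⟨J, q ≫ Abelian.factorThruImage τ, @epi_comp _ _ _ _ _ q hq _ ‹_›⟩
  · have hη : genericPoint X ∉ CohB1.support (cokernel τ) := by
      intro hmem
      obtain ⟨e, -⟩ := TFNodal7.exists_cokernel_stalk τ (genericPoint X)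
      exact hmem (@Equiv.subsingleton _ _ e.symm.toEquiv
        (Submodule.Quotient.subsingleton_iff.2 (LinearMap.range_eq_top.2 hgen)))
    have hcl := isClosed_support (cokernel τ) (locallyFinGen_of_isFT _ hK.2)
    obtain ⟨hTf, hTc, -⟩ := CurveRR24.closed_small k hdim.le hcl hη
    exact CommAlg4.isGloballyGenerated_of_support_finite _ (locallyFinGen_of_isFT _ hK.2)
      (CohB1.support (cokernel τ)) hTf hTc subset_rfl

end Groth.Agent.Mod22.GGDual
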