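import Groth.Agent.SerreDual.ExtAdjoint
import Mathlib.Algebra.Homology.ShortComplex.PreservesHomology

/-!
# A left exact functor and the first homology of an exact-at-zero complex of injectives
-/

set_option autoImplicit false
set_option linter.style.haveILetI false

universe u v v'

open CategoryTheory CategoryTheory.Limits

namespace Groth.Agent.Mod22.HomologyOne

/-- A left exact functor commutes with the first homology of a complex of injectives exact in degree zero. -/
theorem nonempty_homology_one_map {A : Type v} [Category.{u} A] [Abelian A] {B : Type v'} [Category.{u} B] [Abelian B]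
    (F : A ⥤ B) [F.Additive] [PreservesFiniteLimits F] (K : CochainComplex A ℕ) (hinj : ∀ q, Injective (K.X q))
    (h0 : IsZero (K.homology 0)) :
    Nonempty (((F.mapHomologicalComplex (ComplexShape.up ℕ)).obj K).homology 1 ≅ F.obj (K.homology 1)) := by
  let S := K.sc' 0 1 2
  let h := S.leftHomologyData
  haveI : Mono (K.d 0 1) := Preadditive.mono_of_cancel_zero _ fun {P} g hg => by
    have hz : IsZero (K.cycles 0) :=
      haveI := CochainComplex.isIso_homologyπ₀ K
      h0.of_iso (asIso (K.homologyπ 0))
    obtain ⟨l, hl⟩ := KernelFork.IsLimit.lift' (K.cyclesIsKernel 0 1 (by simp)) g hg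
    rw [← hl, hz.eq_of_tgt l 0]
    exact zero_comp
  haveI : Mono S.f := ‹Mono (K.d 0 1)›
  haveI : Mono h.f' := mono_of_mono_fac h.f'_i
  let T := ShortComplex.mk h.f' h.π h.f'_π
  have hT : T.ShortExact :=
    { exact := ShortComplex.exact_of_g_is_cokernel _ h.hπ', mono_f := inferInstanceAs (Mono h.f')
      epi_g := inferInstanceAs (Epi h.π) }
  haveI : Injective T.X₁ := hinj 0
  let τ := hT.splittingOfInjective.map F
  haveI : PreservesColimit (parallelPair h.f' 0) F := preservesColimit_of_preserves_colimit_cocone h.hπ'
    ((isColimitMapCoconeCoforkEquiv' F h.f'_π).symm τ.shortExact.gIsCokernel)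
  haveI : h.IsPreservedBy F := ⟨inferInstance, inferInstance⟩
  exact ⟨((F.mapHomologicalComplex (ComplexShape.up ℕ)).obj K).homologyIsoSc' 0 1 2 (by simp) (by simp) ≪≫
    (h.map F).homologyIso ≪≫ (F.mapIso ((K.homologyIsoSc' 0 1 2 (by simp) (by simp)) ≪≫ h.homologyIso)).symm⟩

end Groth.Agent.Mod22.HomologyOne
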