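import Groth.Agent.Mod22.PointsIdeal
import Groth.Agent.Mod22.CB.LciSetup
import Groth.Agent.AbSchLib.GlobalSections
import Groth.Agent.AbSchLib.SmoothReduced
import Groth.Prelude.Def_KLin
import Mathlib.AlgebraicGeometry.Geometrically.Irreducible

/-!
# Endomorphisms of an ideal sheaf on a smooth proper variety are scalars
-/

set_option autoImplicit false
set_option linter.style.haveILetI false
set_option linter.unusedSectionVars false
set_option backward.isDefEq.respectTransparency.types false
set_option maxHeartbeats 1000000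

universe u

open CategoryTheory CategoryTheory.Limits AlgebraicGeometry Opposite TopologicalSpace
open Groth.Agent.Coherent Groth.Agent.PicLib Groth.Agent.AmpleLib Groth.Agent.EulerLib
open Groth.Agent.Misc15.DivDescent
open Groth.Agent.Mod22.CB (smul_mem_iff)

namespace Groth.Agent.Mod22.IdealEnd

variable {X : Scheme.{u}} [IsIntegral X]

local notation "St" => DerSch.stalkFunctor X

theorem genericPoint_notMem_support {I : X.IdealSheafData} (h : I ≠ ⊥) : genericPoint X ∉ I.support := by
  intro hη
  refine h (le_bot_iff.1 fun U f hf => ?_)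
  have hemp : X.basicOpen f = ⊥ := by
    refine Opens.ext (Set.eq_empty_of_forall_notMem fun x hx => ?_)
    have hxU : x ∈ (U : X.Opens) := X.basicOpen_le f hx
    have hxs : x ∈ (I.support : Set X) :=
      I.support.2.closure_subset_iff.2 (Set.singleton_subset_iff.2 hη) ((genericPoint_spec X).symm ▸ Set.mem_univ x)
    exact ((Scheme.mem_zeroLocus_iff X _ x).1 ((I.coe_support_inter U).le ⟨hxs, hxU⟩).1) f hf hx
  rw [(basicOpen_eq_bot_iff f).1 hemp]
  exact Submodule.zero_mem _

variable (k : Type u) [Field k] [X.Over (Spec (CommRingCat.of k))] [IsProper (X ↘ Spec (CommRingCat.of k))]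
  [Smooth (X ↘ Spec (CommRingCat.of k))] [GeometricallyIrreducible (X ↘ Spec (CommRingCat.of k))]

include k in
theorem bijective_baseHom : Function.Bijective (baseHom k X) := by
  let f := X ↘ Spec (CommRingCat.of k)
  haveI : GeometricallyReduced f := ⟨fun K _ g Z fst snd h => by
    haveI : Smooth snd := MorphismProperty.of_isPullback h inferInstance
    exact AbSchLib.isReduced_of_smooth snd⟩
  haveI : GeometricallyConnected f := ⟨fun K _ g Z fst snd h => by
    haveI : IrreducibleSpace Z := GeometricallyIrreducible.geometrically_irreducibleSpace (f := f) g fst snd h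
    infer_instance⟩
  exact (AbSchLib.bijective_appTop_of_field k f).comp
    (ConcreteCategory.bijective_of_isIso (Scheme.ΓSpecIso (CommRingCat.of k)).inv)

include k in
/-- An endomorphism of an ideal sheaf is a scalar. -/
theorem exists_scalar {I : X.IdealSheafData} (hI : I ≠ ⊥) (φ : ClSub.idealMod I ⟶ ClSub.idealMod I) :
    ∃ c : k, φ = c • 𝟙 (ClSub.idealMod I) := by
  haveI := isNoetherian_of_proper (k := k) (X := X)
  have hreg : ∀ x : X, IsRegularLocalRing (X.presheaf.stalk x) := fun x =>
    VarietyLib.isRegularLocalRing_stalk_of_smooth k X (X ↘ Spec (CommRingCat.of k)) x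
  have hnorm : Pi1.IsNormalScheme X := fun x => by
    haveI := hreg x
    haveI : UniqueFactorizationMonoid (X.presheaf.stalk x) := CAlgH3.ufm_of_regular _
    exact ⟨inferInstance, inferInstance⟩
  let η := genericPoint X
  have hO := Coherent.isCoh_structureModule X
  have hOr : ∀ x : X, RefHull.IsReflexiveAt (Coh.structureModule X) x := fun x =>
    RefHullLib.isReflexiveAt_of_gen (SDiv28.unitStalkEquiv x).bijective
  let ι := ClSub.idealModι I
  haveI : Mono ι := AmpleLib.mono_idealModι I
  have hgen : Function.Bijective (RefHull.stalkMapₗ ι η) :=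
    ⟨(ModuleCat.mono_iff_injective ((St η).map ι)).1 inferInstance,
      PointsIdeal.surjective_idealModι_stalk (genericPoint_notMem_support hI)⟩
  let e := LinearEquiv.ofBijective (RefHull.stalkMapₗ ι η) hgen
  obtain ⟨ψ, hψ⟩ := RefHullLib.exists_hom_of_genericMap hnorm hO hOr
    ((RefHull.stalkMapₗ (φ ≫ ι) η).comp e.symm.toLinearMap) fun y hy v => by
      haveI := hreg y
      haveI : IsDomain (X.presheaf.stalk y) := CAlgH3.isDomain_of_isRegularLocalRing _
      haveI : IsDiscreteValuationRing (X.presheaf.stalk y) :=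
        IsLocalRing.finrank_CotangentSpace_eq_one_iff.1 (by
          have h := (IsRegularLocalRing.iff_finrank_cotangentSpace (X.presheaf.stalk y)).1 (hreg y)
          rw [hy] at h
          exact_mod_cast h)
      let u := SDiv28.unitStalkEquiv y 1
      have hone : ∀ r : X.presheaf.stalk y, SDiv28.unitStalkEquiv y r = r • u := fun r => by
        rw [← map_smul, smul_eq_mul, mul_one]
      have hb : Function.Bijective fun r : X.presheaf.stalk y => r • u :=
        ⟨fun a b h => (SDiv28.unitStalkEquiv y).injective ((hone a).trans (h.trans (hone b).symm)), fun w => by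
          obtain ⟨r, rfl⟩ := (SDiv28.unitStalkEquiv y).surjective w
          exact ⟨r, (hone r).symm⟩⟩
      obtain ⟨g, hg⟩ := (IsPrincipalIdealRing.principal (stk I y)).principal
      have hgm : g ∈ stk I y := by rw [hg]; exact Submodule.mem_span_singleton_self g
      obtain ⟨w, hw⟩ := (RamDiv8.range_idealModι_stalk I y).ge ((smul_mem_iff _ hb g).2 hgm)
      obtain ⟨q, hq⟩ := hb.2 (RefHull.stalkMapₗ (φ ≫ ι) y w)
      have hqg : q ∈ stk I y := (smul_mem_iff _ hb q).1 ((RamDiv8.range_idealModι_stalk I y).le ⟨(St y).map φ w, by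
        refine Eq.trans ?_ hq.symm
        exact stalk_comp_apply φ ι w⟩)
      obtain ⟨a, ha⟩ : ∃ a, a * g = q := by
        rw [hg] at hqg
        exact Submodule.mem_span_singleton.1 hqg
      obtain ⟨r, rfl⟩ := hb.2 v
      have hg0 : g ≠ 0 := fun h0 => genericPoint_notMem_support hI <| by
        have h2 : stk I y = ⊥ := by rw [hg, h0]; simp
        obtain ⟨_, ⟨U, hU, rfl⟩, hyU, -⟩ :=
          X.isBasis_affineOpens.exists_subset_of_mem_open (Set.mem_univ y) isOpen_univ
        rw [Misc15.DivDescent.stk_eq I ⟨U, hU⟩ hyU, Ideal.map_eq_bot_iff_le_ker] at h2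
        have hηU := RefHullLib.genericPoint_mem_of_mem hyU
        refine ((I.coe_support_inter ⟨U, hU⟩).ge ⟨(Scheme.mem_zeroLocus_iff X _ _).2 fun f hf hf' => ?_, hηU⟩).1
        have hu := (X.mem_basicOpen f _ hηU).1 hf'
        rw [← RefHullLib.toGenRing_germ hyU, RingHom.mem_ker.1 (h2 hf), map_zero] at hu
        exact not_isUnit_zero hu
      refine ⟨(r * a) • u, ?_⟩
      have hG : RefHullLib.toGenRing y g ≠ 0 := fun h =>
        hg0 (RefHullLib.toGenRing_injective y (h.trans (map_zero _).symm))
      have key : RefHullLib.toGenRing y g •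
          ((RefHull.stalkMapₗ (φ ≫ ι) η).comp e.symm.toLinearMap) (RefHullLib.toGen _ y (r • u)) =
          RefHullLib.toGenRing y g • RefHullLib.toGen _ y ((r * a) • u) := by
        rw [← LinearMap.map_smul, ← RefHullLib.toGen_smul, ← RefHullLib.toGen_smul, smul_smul, smul_smul]
        have e1 : (g * r) • u = r • RefHull.stalkMapₗ ι y w := by
          rw [show RefHull.stalkMapₗ ι y w = g • u from hw, smul_smul, mul_comm]
        rw [e1, ← map_smul, RefHullLib.toGen_stalkMap]
        show RefHull.stalkMapₗ (φ ≫ ι) η (e.symm (e _)) = _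
        rw [e.symm_apply_apply, ← RefHullLib.toGen_stalkMap, map_smul, ← hq, smul_smul, ← ha]
        congr 2
        ring
      exact ((smul_right_injective _ hG) key).symm
  have hψι : ι ≫ ψ = φ ≫ ι := RefHullLib.hom_ext_genericPoint hO hOr (LinearMap.ext fun v => by
    rw [RankOneHull.stalkMapₗ_comp, hψ]
    exact congrArg (RefHull.stalkMapₗ (φ ≫ ι) η) (e.symm_apply_apply v))
  obtain ⟨c, hc⟩ := (bijective_baseHom k (X := X)).2
    (show Γ(X, ⊤) from ψ.app ⊤ (show Γ(Coh.structureModule X, ⊤) from (1 : Γ(X, ⊤))))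
  refine ⟨c, Scheme.Modules.hom_ext _ _ fun U => ConcreteCategory.hom_ext _ _ fun m => ?_⟩
  refine app_injective_of_mono ι U ?_
  rw [KLin.smul_app_apply, Scheme.Modules.Hom.id_app, Scheme.Modules.Hom.app_smul]
  refine (congr(($hψι).app U m)).symm.trans ?_
  let one : Γ(Coh.structureModule X, U) := (1 : Γ(X, U))
  let t : Γ(X, U) := ι.app U m
  show ψ.app U (ι.app U m) = _
  have h1 : (ι.app U m : Γ(Coh.structureModule X, U)) = t • one := (mul_one t).symm
  conv_lhs => rw [h1, Scheme.Modules.Hom.app_smul]
  have h2 : ψ.app U one = resM (Coh.structureModule X) (le_top : U ≤ ⊤)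
      (show Γ(Coh.structureModule X, ⊤) from baseHom k X c) := by
    rw [hc, ← app_resM]
    refine congrArg (ψ.app U) ?_
    exact (map_one (X.presheaf.map (homOfLE (le_top : U ≤ ⊤)).op).hom).symm
  rw [h2]
  exact mul_comm t _

include k in
theorem finrank_end {I : X.IdealSheafData} (hI : I ≠ ⊥) :
    Module.Finite k (ClSub.idealMod I ⟶ ClSub.idealMod I) ∧
      Module.finrank k (ClSub.idealMod I ⟶ ClSub.idealMod I) = 1 := by
  have hne : (𝟙 (ClSub.idealMod I)) ≠ 0 := fun h => by
    let η := genericPoint X
    obtain ⟨w, hw⟩ := PointsIdeal.surjective_idealModι_stalk (genericPoint_notMem_support hI)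
      (SDiv28.unitStalkEquiv η 1)
    have h2 : RefHull.stalkMapₗ (ClSub.idealModι I) η w = 0 := by
      rw [← Category.id_comp (ClSub.idealModι I), h, Limits.zero_comp]
      exact stalk_zero_apply _
    exact one_ne_zero ((SDiv28.unitStalkEquiv η).injective ((hw.symm.trans h2).trans (map_zero _).symm))
  have hspan : ∀ φ : ClSub.idealMod I ⟶ ClSub.idealMod I, ∃ c : k, c • 𝟙 (ClSub.idealMod I) = φ := fun φ => by
    obtain ⟨c, hc⟩ := exists_scalar k hI φ
    exact ⟨c, hc.symm⟩
  exact ⟨Module.Finite.of_surjective (LinearMap.toSpanSingleton k _ (𝟙 (ClSub.idealMod I))) hspan,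
    finrank_eq_one _ hne hspan⟩

end Groth.Agent.Mod22.IdealEnd
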