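import Groth.Agent.Surf15.K3
import Groth.Agent.Surf15.Connected
import Groth.Agent.Surf15.CycleSections
import Groth.Agent.Surf15.PlaneNef
import Groth.Agent.SecDiv28.Basic
import Groth.Agent.SDiv28.IsoCriterion
import Groth.Agent.Coherent.ProjSpaceBC
import Groth.Agent.Props12.FinLocFree
import Groth.Prelude.Def_PicGrp

/-!
# Vanishing of `H¹` of invertible modules on a K3 surface of Picard number one
-/

set_option autoImplicit false
set_option linter.style.haveILetI false
set_option linter.unusedSectionVars false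
set_option backward.isDefEq.respectTransparency.types false
set_option maxHeartbeats 1000000

universe u

open CategoryTheory CategoryTheory.Limits AlgebraicGeometry Opposite TopologicalSpace
open Groth.Agent.Coherent Groth.Agent.PicLib Groth.Agent.AmpleLib Groth.Agent.EulerLib
open Groth.Agent.CurveRR24 Groth.Agent.DimLib Groth.Agent.AssSch12 Groth.Agent.Surf15

namespace Groth.Agent.Mod22.K3Vanish

variable {X : Scheme.{u}}

/-- Equal classes come from isomorphic modules. -/
theorem nonempty_iso_of_mk_eq {L N : X.Modules} (hL : PicF.IsInvertible L) (hN : PicF.IsInvertible N)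
    (h : InvCl.mk L hL = InvCl.mk N hN) : Nonempty (L ≅ N) := Quotient.exact h

/-- A class in the powers of the generator of the Picard set, on isomorphism classes. -/
theorem mk_of_cls [PicGrp.Law X] {G : X.Modules} (hG : PicF.IsInvertible G)
    (hgen : ∀ c : PicLoc.PicSet X, ∃ n : ℤ, c = PicGrp.cls G hG ^ n) (a : InvCl X) :
    ∃ n : ℕ, a = InvCl.mk G hG ^ n ∨ a * InvCl.mk G hG ^ n = 1 := by
  obtain ⟨D, hD, rfl⟩ := InvCl.exists_rep a
  obtain ⟨z, hz⟩ := hgen (PicGrp.cls D hD)
  cases z with
  | ofNat n =>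
    have hz' : PicGrp.cls D hD = PicGrp.cls G hG ^ n := by simpa using hz
    obtain ⟨e⟩ := (PicGrp.cl_eq_cl_iff _ _).1 ((congrArg Subtype.val hz').trans (PicGrp.cls_pow_val hG n))
    exact ⟨n, Or.inl ((InvCl.mk_eq hD (AmpleLib.isInvertible_tensorPow hG n) e).trans (InvCl.mk_tensorPow hG n))⟩
  | negSucc n =>
    have hz' : PicGrp.cls D hD * PicGrp.cls G hG ^ (n + 1) = 1 := by
      rw [hz, zpow_negSucc, inv_mul_cancel]
    have hv := congrArg Subtype.val hz'
    rw [PicGrp.mul_val, PicGrp.cls_pow_val, PicGrp.cls_val, PicGrp.mulCl_cl, PicGrp.one_val] at hv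
    obtain ⟨e⟩ := (PicGrp.cl_eq_cl_iff _ _).1 hv
    refine ⟨n + 1, Or.inr ?_⟩
    rw [← InvCl.mk_tensorPow hG (n + 1), InvCl.mk_mul]
    exact InvCl.mk_eq _ _ e

variable (k : Type u) [Field k] [IsAlgClosed k] [CharZero k] [X.Over (Spec (CommRingCat.of k))]
  [IsProper (X ↘ Spec (CommRingCat.of k))] [IsIntegral X] [Smooth (X ↘ Spec (CommRingCat.of k))]
  (hX : topologicalKrullDim X = ((2 : ℕ) : WithBot ℕ∞))
  (hK : ExtPow.IsExtPow 2 (Omega.sheaf (X ↘ Spec (CommRingCat.of k))) (Coh.structureModule X))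
  (hq : Module.finrank k (Coh.HH X (Coh.structureModule X) 1) = 0)
  {G : X.Modules} (hG : CohB1.IsAmple G)
  (hgen : ∀ a : InvCl X, ∃ n : ℕ, a = InvCl.mk G hG.1 ^ n ∨ a * InvCl.mk G hG.1 ^ n = 1)
include k hX hK hq hgen

/-- A negative class is at most minus the generator. -/
theorem B_le_of_neg {a : InvCl X} (h : B k a (InvCl.mk G hG.1) < 0) :
    B k a (InvCl.mk G hG.1) ≤ - B k (InvCl.mk G hG.1) (InvCl.mk G hG.1) := by
  have hp := B_ample_pos k hX hG hG
  obtain ⟨n, e | e⟩ := hgen a
  · rw [e, B_pow_left k hX.le] at h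
    nlinarith [Int.natCast_nonneg n]
  · have h' : B k (a * InvCl.mk G hG.1 ^ n) (InvCl.mk G hG.1) = 0 := by rw [e, B_one_left k hX.le]
    rw [B_mul_left k hX.le, B_pow_left k hX.le] at h'
    rcases Nat.eq_zero_or_pos n with rfl | hn
    · simp only [Nat.cast_zero, zero_mul, add_zero] at h'
      omega
    · nlinarith [(Int.ofNat_le.2 hn : ((1 : ℕ) : ℤ) ≤ (n : ℤ))]

/-- The generator is the class of an integral curve. -/
theorem exists_curve_class : ∃ (C : X.IdealSheafData) (hC : BlowUp.IsEffCartierIdeal C),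
    IsCrv C ∧ clI' C hC * InvCl.mk G hG.1 = 1 := by
  haveI := isNoetherian_of_proper (X := X) k
  have hreg : ∀ x : X, IsRegularLocalRing (X.presheaf.stalk x) := fun x =>
    VarietyLib.isRegularLocalRing_stalk_of_smooth k X (X ↘ Spec (CommRingCat.of k)) x
  have hO : PicF.IsInvertible (Coh.structureModule X) := isInvertible_structureModule
  have hp := B_ample_pos k hX hG hG
  obtain ⟨N, ⟨e⟩⟩ := VarietyLib.exists_isInverseOf hG.1
  have hN : PicF.IsInvertible N :=
    PicM.isInvertible_of_tensor hG.1 (glocus_isInvertible_of_iso e.symm isInvertible_structureModule)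
  have hgN : InvCl.mk G hG.1 * InvCl.mk N hN = 1 := by
    rw [InvCl.mk_mul hG.1 hN]; exact InvCl.mk_eq _ _ e
  have hN0 : Subsingleton (Coh.HH X N 0) := by
    by_contra hc
    obtain ⟨s, hs⟩ := exists_section_ne_zero k (not_subsingleton_iff_nontrivial.1 hc)
    have h0 : B k (InvCl.mk G hG.1 * InvCl.mk N hN) (InvCl.mk G hG.1) = 0 := by
      rw [hgN, B_one_left k hX.le]
    rw [B_mul_left k hX.le] at h0
    rcases B_sec k hX hN hs hG with h | h
    · omega
    · obtain ⟨e'⟩ := h
      rw [InvCl.mk_eq hN hO e', show InvCl.mk (Coh.structureModule X) hO = 1 from rfl,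
        B_one_left k hX.le] at h0
      omega
  have hle := euler_le_h0_add_h2 k hX hG.1
  have hr := riemannRoch_cl k hX hK hO (InvCl.mk G hG.1)
  rw [show InvCl.mk (Coh.structureModule X) hO = 1 from rfl, B_one_right k hX.le,
    chiCl_one_k3 k hX hK hq] at hr
  rw [(serre_duality k hX hK hO hG.1 hN e).1, (HHCongr k (unitTensorIso N) 0).finrank_eq,
    Module.finrank_zero_of_subsingleton (M := Coh.HH X N 0)] at hle
  have hG0 : Nontrivial (Coh.HH X G 0) := by
    by_contra hc
    rw [not_nontrivial_iff_subsingleton] at hc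
    rw [Module.finrank_zero_of_subsingleton (M := Coh.HH X G 0)] at hle
    simp only [Nat.cast_zero, add_zero] at hle
    omega
  obtain ⟨s, hs⟩ := exists_section_ne_zero k hG0
  have hqO : Coh.IsQCoh (Coh.structureModule X) := isQCoh_structureModule
  obtain ⟨Z, hZ, ⟨eZ⟩, hsupp⟩ := SecDiv28.exists_effCartier_of_section hG.1 s fun z hz => by
    haveI := Props12.free_stalk_of_isFinLocFree (Coh.structureModule X)
      (Coherent.isFinLocFree_of_invertible hO) z
    rw [SDiv28.eq_genericPoint_of_mem_ass_of_noZeroSMulDivisors _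
      ⟨fun {c m} hcm => smul_eq_zero.1 hcm⟩ hz]
    exact genericPoint_mem_glocus hG.1 hs
  have hZg : clI' Z hZ * InvCl.mk G hG.1 = 1 := by
    rw [clI', InvCl.mk_mul]; exact InvCl.mk_eq _ _ eZ
  have hBZ : B k (clI' Z hZ) (InvCl.mk G hG.1) = - B k (InvCl.mk G hG.1) (InvCl.mk G hG.1) := by
    have h := congrArg (fun a => B k a (InvCl.mk G hG.1)) hZg
    simp only [B_mul_left k hX.le, B_one_left k hX.le] at h
    omega
  have hZ0 : Z ≠ ⊤ := fun h => by
    have hs0 : (glocus G s : Set X)ᶜ = ∅ := by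
      rw [← hsupp, h, Scheme.IdealSheafData.support_top]; rfl
    obtain ⟨e'⟩ := nonempty_iso_of_glocus_eq_top (L := G) (s := s)
      (Opens.ext (Set.compl_empty_iff.1 hs0))
    rw [InvCl.mk_eq hG.1 hO e', show InvCl.mk (Coh.structureModule X) hO = 1 from rfl,
      B_one_left k hX.le] at hp
    omega
  obtain ⟨W, C, hW, hCc, hZW, -⟩ := exists_split k hX hreg hZ hZ0
  have hC := hCc.isEffCartier k hX hreg
  by_cases hW0 : W = ⊤
  · have hZC : Z = C := by rw [hZW, hW0, Scheme.IdealSheafData.top_mul]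
    exact ⟨C, hC, hCc, by rw [← clI'_congr hZC hZ hC]; exact hZg⟩
  · exfalso
    have e1 : clI' Z hZ = clI' W hW * clI' C hC :=
      (clI'_congr hZW hZ (ModPairLib.isEffCartier_mul hW hC)).trans (clI'_mul W C hW hC)
    rw [e1, B_mul_left k hX.le] at hBZ
    have hw := B_le_of_neg k hX hK hq hG hgen (B_clI'_ample_neg k hX hW hW0 hG)
    have hc := B_le_of_neg k hX hK hq hG hgen (B_clI'_ample_neg k hX hC hCc.ne_top hG)
    omega

/-- `H¹` vanishes for the negative classes. -/
theorem subsingleton_h1_neg : ∀ (n : ℕ) (J : X.Modules) (hJ : PicF.IsInvertible J),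
    InvCl.mk J hJ * InvCl.mk G hG.1 ^ n = 1 → Subsingleton (Coh.HH X J 1) := by
  haveI := isNoetherian_of_proper (X := X) k
  haveI := isSeparated_of_proper (X := X) k
  haveI := finite_HH_of_isCoh k (isCoh_structureModule X) 1
  have hH1 : Subsingleton (Coh.HH X (Coh.structureModule X) 1) :=
    (Module.finrank_zero_iff (R := k)).1 hq
  obtain ⟨C, hC, hCc, hcg⟩ := exists_curve_class k hX hK hq hG hgen
  have hp := B_ample_pos k hX hG hG
  have hBc : B k (clI' C hC) (InvCl.mk G hG.1) = - B k (InvCl.mk G hG.1) (InvCl.mk G hG.1) := by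
    have h := congrArg (fun a => B k a (InvCl.mk G hG.1)) hcg
    simp only [B_mul_left k hX.le, B_one_left k hX.le] at h
    omega
  have hIC := FlatMor12.IdealModGen.isInvertible_idealMod C hC
  intro n
  induction n with
  | zero =>
    intro J hJ h
    rw [pow_zero, mul_one] at h
    obtain ⟨e⟩ := nonempty_iso_of_mk_eq hJ isInvertible_structureModule h
    exact (HHCongr k e 1).toEquiv.subsingleton
  | succ n ih =>
    intro J hJ h
    obtain ⟨J', hJ', hmk⟩ := InvCl.exists_rep (InvCl.mk J hJ * InvCl.mk G hG.1)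
    have h' : InvCl.mk J' hJ' * InvCl.mk G hG.1 ^ n = 1 := by
      rw [hmk, mul_assoc, ← pow_succ']; exact h
    have heJ : InvCl.mk J hJ = clI' C hC * InvCl.mk J' hJ' := by
      rw [hmk, mul_left_comm, hcg, mul_one]
    rcases Nat.eq_zero_or_pos n with hn | hn
    · subst hn
      rw [pow_zero, mul_one] at h'
      rw [h', mul_one] at heJ
      obtain ⟨e⟩ := nonempty_iso_of_mk_eq hJ hIC heJ
      haveI := hCc.1
      letI : C.subscheme.Over (Spec (CommRingCat.of k)) :=
        ⟨C.subschemeι ≫ (X ↘ Spec (CommRingCat.of k))⟩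
      haveI := subsingleton_h1_idealMod k hH1 C rfl hC hX hG
      exact (HHCongr k e 1).toEquiv.subsingleton
    · have hS := twistSeq_shortExact hJ' (shortExact_ideal C)
      haveI := hCc.1
      have h0 := (curve_facts k C hCc.2 hJ').2.2.1 (by
        rw [deg_quotMod k hC, neg_lt_zero]
        have hB := congrArg (fun a => B k (clI' C hC) a) h'
        simp only [B_mul_right k hX.le, B_one_right k hX.le] at hB
        rw [B_comm k (clI' C hC) (InvCl.mk G hG.1 ^ n), B_pow_left k hX.le, B_comm k _ (clI' C hC), hBc] at hB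
        nlinarith [(Int.ofNat_le.2 hn : ((1 : ℕ) : ℤ) ≤ (n : ℤ))])
      haveI := finite_HH_of_isCoh k (isCoh_twist hJ' (isCoh_quotMod C)) 0
      have hq0 : Subsingleton (Coh.HH X (CohB1.tensorMod (ClSub.quotMod C) J') 0) :=
        (Module.finrank_zero_iff (R := k)).1 h0
      have hinj := SerreDual.hmap_injective_of_shortExact k hS 0 hq0
      haveI : Subsingleton (Coh.HH X (CohB1.tensorMod (Coh.structureModule X) J') 1) :=
        haveI := ih J' hJ' h'
        (HHCongr k (unitTensorIso J') 1).toEquiv.subsingleton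
      have h1 : Subsingleton (Coh.HH X (CohB1.tensorMod (ClSub.idealMod C) J') 1) :=
        haveI : Subsingleton (Coh.HH X (twistSeq (ShortComplex.mk (ClSub.idealModι C) (ClSub.toSubscheme C)
          (kernel.condition (ClSub.toSubscheme C))) J').X₂ (0 + 1)) :=
          ‹Subsingleton (Coh.HH X (CohB1.tensorMod (Coh.structureModule X) J') 1)›
        hinj.subsingleton
      obtain ⟨e⟩ := nonempty_iso_of_mk_eq hJ (isInvertible_tensorMod hIC hJ')
        (heJ.trans (InvCl.mk_mul hIC hJ'))
      exact (HHCongr k e 1).toEquiv.subsingleton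

/-- `H¹` vanishes for all invertible modules. -/
theorem subsingleton_h1 {D : X.Modules} (hD : PicF.IsInvertible D) : Subsingleton (Coh.HH X D 1) := by
  haveI := isNoetherian_of_proper (X := X) k
  obtain ⟨n, hn | hn⟩ := hgen (InvCl.mk D hD)
  · have hO : PicF.IsInvertible (Coh.structureModule X) := isInvertible_structureModule
    obtain ⟨N, ⟨e⟩⟩ := VarietyLib.exists_isInverseOf hD
    have hN : PicF.IsInvertible N :=
      PicM.isInvertible_of_tensor hD (glocus_isInvertible_of_iso e.symm isInvertible_structureModule)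
    have hgN : InvCl.mk N hN * InvCl.mk G hG.1 ^ n = 1 := by
      rw [← hn, mul_comm, InvCl.mk_mul hD hN]; exact InvCl.mk_eq _ _ e
    haveI := subsingleton_h1_neg k hX hK hq hG hgen n N hN hgN
    haveI := finite_HH_of_isCoh k (CohBC.isCoh_of_isFinLocFree (Coherent.isFinLocFree_of_invertible hD)) 1
    refine (Module.finrank_zero_iff (R := k)).1 ?_
    rw [(serre_duality k hX hK hO hD hN e).2.1, (HHCongr k (unitTensorIso N) 1).finrank_eq]
    exact Module.finrank_zero_of_subsingleton
  · exact subsingleton_h1_neg k hX hK hq hG hgen n D hD hn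

end Groth.Agent.Mod22.K3Vanish
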