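import Mathlib

/-!
# Determinants of lattices in `K^r`
-/

set_option autoImplicit false

universe u

namespace Groth.Agent.Mod22

open Module

section Integral

variable {R : Type u} [CommRing R] [IsDomain R] [IsPrincipalIdealRing R] [IsLocalRing R]

/-- A submodule of `R^r` containing `π R^r`, with quotient generated by `s` elements, has a generating square
matrix with determinant associated to `π^k`, where `k ≤ min s r`. -/
theorem exists_rows {π : R} (hπ : Irreducible π) {r s : ℕ} (N : Submodule R (Fin r → R))
    (hN : ∀ x, π • x ∈ N) (g : Fin s → Fin r → R) (hg : N ⊔ Submodule.span R (Set.range g) = ⊤) :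
    ∃ (k : ℕ) (e : Fin r → Fin r → R),
      k ≤ min s r ∧ Submodule.span R (Set.range e) = N ∧ Associated (Matrix.det (Matrix.of e)) (π ^ k) := by
  classical
  obtain ⟨n, snf⟩ := N.smithNormalForm (Pi.basisFun R (Fin r))
  have hsurj : Function.Surjective snf.f := fun j => by
    by_contra h
    have h0 := snf.repr_eq_zero_of_notMem_range ⟨_, hN (snf.bM j)⟩ (i := j) (fun ⟨i, hi⟩ => h ⟨i, hi⟩)
    simp only [map_smul, Finsupp.smul_apply, Module.Basis.repr_self, Finsupp.single_eq_same, smul_eq_mul,
      mul_one] at h0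
    exact hπ.ne_zero h0
  let σ : Fin n ≃ Fin r := Equiv.ofBijective snf.f ⟨snf.f.injective, hsurj⟩
  let a : Fin r → R := fun j => snf.a (σ.symm j)
  let e : Fin r → Fin r → R := fun j => a j • snf.bM j
  have he : ∀ i, (snf.bN i : Fin r → R) = e (σ i) := fun i => by
    rw [snf.snf i]
    show snf.a i • snf.bM (σ i) = snf.a (σ.symm (σ i)) • snf.bM (σ i)
    rw [σ.symm_apply_apply]
  have hspan : Submodule.span R (Set.range e) = N := by
    refine le_antisymm (Submodule.span_le.2 ?_) fun x hx => ?_
    · rintro _ ⟨j, rfl⟩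
      rw [← σ.apply_symm_apply j, ← he]
      exact (snf.bN _).2
    · have h := congrArg Subtype.val (snf.bN.sum_repr ⟨x, hx⟩)
      simp only [Submodule.coe_sum, Submodule.coe_smul] at h
      rw [← h]
      exact Submodule.sum_mem _ fun i _ => Submodule.smul_mem _ _ (he i ▸ Submodule.subset_span ⟨σ i, rfl⟩)
  have hcoord : ∀ x ∈ N, ∀ j, a j ∣ snf.bM.repr x j := fun x hx j => by
    rw [← hspan] at hx
    obtain ⟨c, rfl⟩ := Submodule.mem_span_range_iff_exists_fun R |>.1 hx
    rw [map_sum, Finsupp.finsetSum_apply]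
    refine Finset.dvd_sum fun i _ => ?_
    simp only [e, map_smul, Finsupp.smul_apply, Module.Basis.repr_self, smul_eq_mul]
    rcases eq_or_ne i j with rfl | hij
    · rw [Finsupp.single_eq_same]; exact ⟨c i, by ring⟩
    · rw [Finsupp.single_eq_of_ne (Ne.symm hij)]; simp
  have hdvd : ∀ j, a j ∣ π := fun j => by
    have h := hcoord _ (hN (snf.bM j)) j
    simpa using h
  let S : Finset (Fin r) := Finset.univ.filter fun j => ¬ IsUnit (a j)
  refine ⟨S.card, e, le_min ?_ ((Finset.card_le_univ S).trans (Fintype.card_fin r).le), hspan, ?_⟩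
  · let m := IsLocalRing.maximalIdeal R
    let κ := IsLocalRing.ResidueField R
    let q : (Fin r → R) →ₗ[R] (S → κ) := LinearMap.pi fun j =>
      (Algebra.linearMap R κ).comp (snf.bM.coord j.1)
    have hq : Function.Surjective q := fun v => by
      choose w hw using fun j => IsLocalRing.residue_surjective (v j)
      refine ⟨∑ j : S, w j • snf.bM j.1, funext fun j => ?_⟩
      show algebraMap R κ (snf.bM.repr (∑ i : S, w i • snf.bM i.1) j.1) = v j
      rw [map_sum, Finsupp.finsetSum_apply, Finset.sum_eq_single j]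
      · rw [map_smul, Finsupp.smul_apply, Module.Basis.repr_self, Finsupp.single_eq_same, smul_eq_mul, mul_one]
        exact hw j
      · intro i _ hij
        rw [map_smul, Finsupp.smul_apply, Module.Basis.repr_self,
          Finsupp.single_eq_of_ne (fun h => hij (Subtype.ext h.symm)), smul_zero]
      · simp
    have hqN : ∀ x ∈ N, q x = 0 := fun x hx => funext fun j => by
      show IsLocalRing.residue R (snf.bM.repr x j.1) = 0
      rw [IsLocalRing.residue_eq_zero_iff]
      exact Ideal.mem_of_dvd _ (hcoord x hx j.1) (Finset.mem_filter.1 j.2).2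
    have htop : Submodule.span κ (Set.range fun i => q (g i)) = ⊤ := by
      refine eq_top_iff.2 fun v _ => ?_
      obtain ⟨x, rfl⟩ := hq v
      obtain ⟨y, hy, z, hz, rfl⟩ := Submodule.mem_sup.1 (show x ∈ N ⊔ Submodule.span R (Set.range g) from hg ▸ trivial)
      rw [map_add, hqN y hy, zero_add]
      obtain ⟨c, rfl⟩ := Submodule.mem_span_range_iff_exists_fun R |>.1 hz
      rw [map_sum]
      refine Submodule.sum_mem _ fun i _ => ?_
      rw [map_smul, ← algebraMap_smul κ (c i)]
      exact Submodule.smul_mem _ _ (Submodule.subset_span ⟨i, rfl⟩)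
    have h := finrank_range_le_card (R := κ) (fun i => q (g i))
    rw [Set.finrank, htop, finrank_top, Module.finrank_pi, Fintype.card_coe, Fintype.card_fin] at h
    exact h
  · have hA : Matrix.of e = Matrix.diagonal a * Matrix.of (fun j => snf.bM j) := by
      ext i j
      simp [e, Matrix.diagonal_mul]
    have hu : IsUnit (Matrix.det (Matrix.of fun j => snf.bM j)) := by
      have h := (Pi.basisFun R (Fin r)).isUnit_det snf.bM
      rwa [Pi.basisFun_det] at h
    rw [hA, Matrix.det_mul, Matrix.det_diagonal]
    refine (associated_mul_unit_left _ _ hu).trans ?_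
    rw [← Finset.prod_filter_mul_prod_filter_not Finset.univ (fun j => IsUnit (a j))]
    refine (associated_unit_mul_left _ _ ?_).trans ?_
    · exact IsUnit.prod_iff.2 fun j hj => (Finset.mem_filter.1 hj).2
    · rw [← Finset.prod_const π]
      exact Associated.prod _ _ _ fun j hj =>
        ((hπ.dvd_iff.1 (hdvd j)).resolve_left (Finset.mem_filter.1 hj).2).symm

end Integral

section Lattice

variable {R : Type u} [CommRing R] [IsDomain R] [IsPrincipalIdealRing R] [IsLocalRing R]
  {K : Type u} [Field K] [Algebra R K] [IsFractionRing R K] {r : ℕ}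

/-- A finitely generated submodule of `K^r` spanning over `K` has a square generating matrix. -/
theorem exists_lattice_rows (Λ : Submodule R (Fin r → K)) (hfg : Λ.FG)
    (hspan : Submodule.span K (Λ : Set (Fin r → K)) = ⊤) :
    ∃ e : Fin r → Fin r → K, Submodule.span R (Set.range e) = Λ ∧ Matrix.det (Matrix.of e) ≠ 0 := by
  classical
  haveI : Module.Finite R Λ := Module.Finite.iff_fg.2 hfg
  obtain ⟨n, b⟩ := Module.basisOfFiniteTypeTorsionFree' (R := R) (M := Λ)
  let v : Fin n → Fin r → K := fun i => (b i).1
  have hv : Submodule.span R (Set.range v) = Λ := by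
    have h := congrArg (Submodule.map Λ.subtype) b.span_eq
    rw [Submodule.map_span, ← Set.range_comp, Submodule.map_subtype_top] at h
    exact h
  have hli : LinearIndependent K v :=
    (LinearIndependent.iff_fractionRing R K).1 (b.linearIndependent.map' Λ.subtype Λ.ker_subtype)
  have hK : Submodule.span K (Set.range v) = ⊤ := by
    refine eq_top_iff.2 (hspan.ge.trans (Submodule.span_le.2 ?_))
    rw [← hv]
    exact Submodule.span_subset_span R K _
  let B : Module.Basis (Fin n) K (Fin r → K) := Module.Basis.mk hli hK.ge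
  have hn : n = r := by
    have h := Module.finrank_eq_card_basis B
    rw [Module.finrank_pi, Fintype.card_fin, Fintype.card_fin] at h
    exact h.symm
  subst hn
  refine ⟨v, hv, ?_⟩
  have h := ((Pi.basisFun K (Fin n)).isUnit_det B).ne_zero
  rw [Pi.basisFun_det, show (B : Fin n → Fin n → K) = v from Module.Basis.coe_mk hli hK.ge] at h
  exact h

/-- The determinants of two lattices `Λ ≤ Λ'` with `π Λ' ≤ Λ` and `Λ'/Λ` generated by `s` elements. -/
theorem exists_step {π : R} (hπ : Irreducible π) (Λ Λ' : Submodule R (Fin r → K)) (hle : Λ ≤ Λ')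
    (hfg : Λ'.FG) (hspan : Submodule.span K (Λ : Set (Fin r → K)) = ⊤) (hkill : ∀ x ∈ Λ', π • x ∈ Λ)
    {s : ℕ} (g : Fin s → Fin r → K) (hg' : ∀ i, g i ∈ Λ') (hg : Λ ⊔ Submodule.span R (Set.range g) = Λ') :
    ∃ (e e' : Fin r → Fin r → K) (k : ℕ) (u : Rˣ), k ≤ min s r ∧ Submodule.span R (Set.range e) = Λ ∧
      Submodule.span R (Set.range e') = Λ' ∧ Matrix.det (Matrix.of e') ≠ 0 ∧
      Matrix.det (Matrix.of e) = algebraMap R K (u * π ^ k) * Matrix.det (Matrix.of e') := by
  classical
  obtain ⟨e', he', hd⟩ := exists_lattice_rows Λ' hfg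
    (eq_top_iff.2 (hspan.ge.trans (Submodule.span_mono hle)))
  let T : (Fin r → R) →ₗ[R] (Fin r → K) := Fintype.linearCombination R e'
  have hT : LinearMap.range T = Λ' := by rw [Fintype.range_linearCombination, he']
  have hTmem : ∀ c, T c ∈ Λ' := fun c => hT ▸ LinearMap.mem_range_self T c
  choose g₀ hg₀ using fun i => LinearMap.mem_range.1 (hT.ge (hg' i))
  obtain ⟨k, d, hk, hd', hdet⟩ := exists_rows hπ (Λ.comap T)
    (fun x => by rw [Submodule.mem_comap, map_smul]; exact hkill _ (hTmem x)) g₀ (by
      refine eq_top_iff.2 fun c _ => ?_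
      obtain ⟨y, hy, z, hz, hyz⟩ := Submodule.mem_sup.1 (hg.ge (hTmem c))
      obtain ⟨a, rfl⟩ := Submodule.mem_span_range_iff_exists_fun R |>.1 hz
      refine Submodule.mem_sup.2 ⟨c - ∑ i, a i • g₀ i, ?_, _,
        Submodule.mem_span_range_iff_exists_fun R |>.2 ⟨a, rfl⟩, sub_add_cancel c _⟩
      rw [Submodule.mem_comap, map_sub, map_sum, ← hyz]
      simp only [map_smul, hg₀, add_sub_cancel_right]
      exact hy)
  obtain ⟨u, hu⟩ := hdet.symm
  refine ⟨fun i => T (d i), e', k, u, hk, ?_, he', hd, ?_⟩
  · have h := congrArg (Submodule.map T) hd'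
    rw [Submodule.map_span, ← Set.range_comp, Submodule.map_comap_eq, hT, inf_eq_right.2 hle] at h
    exact h
  · have hm : Matrix.of (fun i => T (d i)) = (Matrix.of d).map (algebraMap R K) * Matrix.of e' := by
      ext i j
      simp [T, Fintype.linearCombination_apply, Matrix.mul_apply, Algebra.smul_def, Finset.sum_apply]
    rw [hm, Matrix.det_mul, ← RingHom.mapMatrix_apply, ← RingHom.map_det, ← hu, mul_comm (π ^ k)]

omit [IsDomain R] [IsPrincipalIdealRing R] [IsLocalRing R] [IsFractionRing R K] in
/-- Determinants of tuples in a lattice are multiples of the determinant of a basis. -/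
theorem exists_det_eq (e v : Fin r → Fin r → K) (h : ∀ i, v i ∈ Submodule.span R (Set.range e)) :
    ∃ c : R, Matrix.det (Matrix.of v) = algebraMap R K c * Matrix.det (Matrix.of e) := by
  classical
  choose C hC using fun i => Submodule.mem_span_range_iff_exists_fun R |>.1 (h i)
  refine ⟨Matrix.det (Matrix.of C), ?_⟩
  have hm : Matrix.of v = (Matrix.of C).map (algebraMap R K) * Matrix.of e := by
    ext i j
    simp [← hC i, Matrix.mul_apply, Algebra.smul_def, Finset.sum_apply]
  rw [hm, Matrix.det_mul, ← RingHom.mapMatrix_apply, ← RingHom.map_det]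

end Lattice

end Groth.Agent.Mod22
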