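import Groth.Agent.Mod22.RankOneHull
import Groth.Agent.DQCoh.CosectionLocus17
import Groth.Agent.RamDiv8.Main
import Groth.Agent.EulerLib.StabBasic
import Groth.Agent.Surf15.FiniteInter
import Groth.Agent.BddFibLib29.Basic
import Groth.Agent.IntCM8.Main
import Groth.Agent.RefHullLib.Divisor
import Groth.Prelude.Def_Mor2

/-!
# Ideals of finitely many points
-/

set_option autoImplicit false
set_option linter.style.haveILetI false
set_option linter.unusedSectionVars false
set_option backward.isDefEq.respectTransparency.types false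
set_option maxHeartbeats 1000000

universe u

open CategoryTheory CategoryTheory.Limits AlgebraicGeometry Opposite TopologicalSpace
open Groth.Agent.Coherent Groth.Agent.PicLib Groth.Agent.AmpleLib Groth.Agent.EulerLib Groth.Agent.DimLib
open Groth.Agent.Misc15.DivDescent

namespace Groth.Agent.Mod22.PointsIdeal

variable {X : Scheme.{u}}

local notation "St" => DerSch.stalkFunctor X

/-- A submodule of the structure sheaf is an ideal sheaf. -/
theorem exists_idealMod_of_mono' {E : X.Modules} [Coh.IsQCoh E] (p : E ⟶ Coh.structureModule X) [Mono p] :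
    ∃ (I : X.IdealSheafData) (α : E ≅ ClSub.idealMod I), α.hom ≫ ClSub.idealModι I = p := by
  obtain ⟨q, hq⟩ := CosecLocus17.exists_toIdealMod p
  refine ⟨CosecLocus17.imageIdeal p, ?_⟩
  haveI : Mono q := mono_of_mono_fac hq
  haveI := CurveRR24.shortExact_ideal (CosecLocus17.imageIdeal p) |>.mono_f
  haveI : Epi q := by
    refine Coherent.epi_of_locally_surjective q fun W a y hy => ?_
    obtain ⟨U, hU, hyU, hUW⟩ := exists_isAffineOpen_mem_and_subset (x := y) (U := W) hy
    let a' := resM (ClSub.idealMod (CosecLocus17.imageIdeal p)) (show U ≤ W from hUW) a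
    have hf : (ClSub.idealModι (CosecLocus17.imageIdeal p)).app U a' ∈
        Set.range (fun e => p.app U e) := by
      obtain ⟨e, he⟩ := (CosecLocus17.mem_imageIdeal p ⟨U, hU⟩
        (show Γ(X, U) from (ClSub.idealModι (CosecLocus17.imageIdeal p)).app U a')).1 (by
          rw [← (CosecLocus17.imageIdeal p).ker_subschemeι_app ⟨U, hU⟩, RingHom.mem_ker]
          exact (AmpleLib.mem_range_idealModι (CosecLocus17.imageIdeal p) U _).1 ⟨a', rfl⟩)
      exact ⟨e, he⟩
    obtain ⟨e, he⟩ := hf
    refine ⟨U, hUW, hyU, e, Coherent.app_injective_of_mono (ClSub.idealModι (CosecLocus17.imageIdeal p)) U ?_⟩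
    refine Eq.trans ?_ he
    exact congr(($hq).app U e)
  haveI := isIso_of_mono_of_epi q
  exact ⟨asIso q, hq⟩

theorem exists_idealMod_of_mono {E : X.Modules} [Coh.IsQCoh E] (p : E ⟶ Coh.structureModule X) [Mono p] :
    ∃ I : X.IdealSheafData, Nonempty (E ≅ ClSub.idealMod I) :=
  let ⟨I, α, _⟩ := exists_idealMod_of_mono' p
  ⟨I, ⟨α⟩⟩

theorem support_quotMod (I : X.IdealSheafData) : CohB1.support (ClSub.quotMod I) = (I.support : Set X) := by
  haveI : Coh.IsQCoh (Coh.structureModule X) := isQCoh_structureModule (X := X)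
  haveI : Coh.IsQCoh (Coh.structureModule I.subscheme) := isQCoh_structureModule (X := I.subscheme)
  haveI : Coh.IsQCoh ((Scheme.Modules.pushforward I.subschemeι).obj (Coh.structureModule I.subscheme)) :=
    isQCoh_push I.subschemeι _
  haveI : Coh.IsQCoh (ClSub.idealMod I) := isQCoh_kernel (ClSub.toSubscheme I)
  have h := CosecLocus17.support_coker_of_epi I (𝟙 (ClSub.idealMod I))
  refine Eq.trans ?_ h
  have hs := CurveRR24.shortExact_ideal I
  haveI := CurveRR24.epi_toSubscheme I
  exact IntCM8.support_iso ((cokernelIsoOfEq (Category.id_comp (ClSub.idealModι I))) ≪≫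
    (cokernelIsCokernel (ClSub.idealModι I)).coconePointUniqueUpToIso hs.gIsCokernel).symm

section

variable (k : Type u) [Field k] [X.Over (Spec (CommRingCat.of k))] [IsProper (X ↘ Spec (CommRingCat.of k))]

include k in
/-- A closed subscheme of constant Hilbert polynomial `ℓ` is finite of degree `ℓ`. -/
theorem isFinLocFreeOfDeg_of_hilbPoly {L : X.Modules} (hL : CohB1.IsAmple L) (Z : X.IdealSheafData) (ℓ : ℕ)
    (hP : ShStab.IsHilbPoly k X L (ClSub.quotMod Z) (Polynomial.C (ℓ : ℚ))) :
    (Z.support : Set X).Finite ∧ Mor2.IsFinLocFreeOfDeg ℓ (Z.subschemeι ≫ (X ↘ Spec (CommRingCat.of k))) := by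
  haveI := isNoetherian_of_proper (k := k) (X := X)
  have hQ : Coh.IsCoh (ClSub.quotMod Z) := CurveRR24.isCoh_quotMod Z
  let f := Z.subschemeι ≫ (X ↘ Spec (CommRingCat.of k))
  have hhom : topologicalKrullDim Z.subscheme = topologicalKrullDim (CohB1.support (ClSub.quotMod Z)) := by
    rw [support_quotMod, ← Z.range_subschemeι]
    exact Z.subschemeι.isEmbedding.toHomeomorph.isHomeomorph.topologicalKrullDim_eq _
  have h0 : topologicalKrullDim Z.subscheme ≤ 0 := by
    by_contra hne
    have hZ : ¬ IsZero (ClSub.quotMod Z) := fun h => hne (by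
      rw [hhom, Set.subset_empty_iff.1 (support_of_isZero h ∅)]
      haveI : IsEmpty (TopologicalSpace.IrreducibleCloseds (∅ : Set X)) := ⟨fun A => A.2.1.elim fun a _ => a.2⟩
      show Order.krullDim _ ≤ _
      rw [Order.krullDim_eq_bot]
      exact bot_le)
    obtain ⟨r, hr⟩ := exists_dim_eq k hZ
    have hpos : 0 < r := Nat.pos_of_ne_zero fun h => hne (by rw [hhom, hr, h]; rfl)
    have := alpha_pos k hL hQ hP hr
    rw [StabCat.alpha, Polynomial.coeff_C, if_neg (Nat.pos_iff_ne_zero.1 hpos), mul_zero] at this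
    exact lt_irrefl _ this
  haveI := DimLib.finite_of_dim_le_zero f h0
  have hfin : (Z.support : Set X).Finite := by
    rw [← Z.range_subschemeι]; exact Set.finite_range _
  haveI : IsFinite f := DimLib.isFinite_of_finite f
  haveI : Flat f := BddFibLib29.flat_toSpecField k f
  refine ⟨hfin, ⟨inferInstance, inferInstance, inferInstance⟩, fun y => ?_⟩
  rw [Subsingleton.elim y (IsLocalRing.closedPoint k)]
  haveI : IsAffine Z.subscheme := isAffine_of_isAffineHom f
  letI := BddFib.secAlgebra (CommRingCat.of k) f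
  have hfinA : Module.Finite k Γ(Z.subscheme, ⊤) := by
    have := f.finite_appTop
    rw [← RingHom.finite_respectsIso.cancel_left_isIso (Scheme.ΓSpecIso (CommRingCat.of k)).inv,
      ← CommRingCat.hom_comp] at this
    exact RingHom.finite_algebraMap.1 this
  rw [BddFibLib29.finrank_eq_of_affine k f hfinA]
  let e : GA (baseHom k X) (ClSub.quotMod Z) ≃ₗ[k] Γ(Z.subscheme, ⊤) :=
    { toFun := fun s => (s : Γ(ClSub.quotMod Z, ⊤))
      invFun := fun s => (s : Γ(ClSub.quotMod Z, ⊤))
      map_add' := fun _ _ => rfl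
      map_smul' := fun c s => by
        show _ = algebraMap k Γ(Z.subscheme, ⊤) c * _
        rfl
      left_inv := fun _ => rfl
      right_inv := fun _ => rfl }
  have he := (hP 0)
  rw [Polynomial.eval_C, euler_twist_eq k hL.1, pow_zero, chiCl_one,
    IntCM8.euler_eq_h0 k hQ (by rw [support_quotMod]; exact hfin), (CurveRR24.hhZero k _).finrank_eq,
    e.finrank_eq] at he
  exact_mod_cast he

include k in
/-- Closed points of a variety of dimension at least two do not have height one. -/
theorem dim_stalk_ne_one_of_closed [IsIntegral X] (hdim : 2 ≤ topologicalKrullDim X) {z : X}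
    (hz : IsClosed ({z} : Set X)) : ringKrullDim (X.presheaf.stalk z) ≠ 1 := by
  let p := X ↘ Spec (CommRingCat.of k)
  have hη : IsGenericPoint (genericPoint X) (Set.univ : Set X) := genericPoint_spec X
  have hdη := topologicalKrullDim_eq_ptDim_of_isGenericPoint p hη
  rw [(Homeomorph.Set.univ X).isHomeomorph.topologicalKrullDim_eq] at hdη
  rw [hdη] at hdim
  have hη2 : 2 ≤ ptDim p (genericPoint X) := by exact_mod_cast hdim
  have hz0 : ptDim p z = 0 := (ptDim_eq_zero_iff p z).2 hz
  obtain ⟨w, h1, h2, h3⟩ := exists_specializes_ptDim_succ p (hη.specializes (Set.mem_univ z))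
    (fun e => by rw [e] at hη2; omega)
  have a := SDiv28.CartierPart.dim_add_one_le h1 (fun e => by rw [e] at hη2; omega)
  have b := SDiv28.CartierPart.dim_add_one_le h2 (fun e => by rw [e] at h3; omega)
  have hge : (2 : ℕ∞) ≤ Order.coheight z := by
    refine le_trans ?_ b
    calc (2 : ℕ∞) = 0 + 1 + 1 := by norm_num
      _ ≤ Order.coheight w + 1 := by gcongr; exact le_trans (by gcongr; exact zero_le) a
  rw [ringKrullDim_stalk_eq_coheight]
  intro h
  have h' : Order.coheight z = 1 := by exact_mod_cast h
  rw [h'] at hge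
  norm_num at hge

theorem surjective_idealModι_stalk {I : X.IdealSheafData} {x : X} (hx : x ∉ I.support) :
    Function.Surjective (RefHull.stalkMapₗ (ClSub.idealModι I) x) := fun v => by
  have h := RamDiv8.range_idealModι_stalk I x
  rw [SDiv28.CartierPart.stk_eq_top hx, Submodule.top_smul] at h
  exact LinearMap.range_eq_top.1 h v

include k in
/-- Isomorphic ideals of finitely many points are equal. -/
theorem le_of_iso [IsIntegral X] [Smooth (X ↘ Spec (CommRingCat.of k))] (hdim : 2 ≤ topologicalKrullDim X)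
    {I J : X.IdealSheafData} (hI : (I.support : Set X).Finite) (hJ : (J.support : Set X).Finite)
    (α : ClSub.idealMod I ≅ ClSub.idealMod J) : I ≤ J := by
  haveI := isNoetherian_of_proper (k := k) (X := X)
  haveI : JacobsonSpace X := LocallyOfFiniteType.jacobsonSpace (X ↘ Spec (CommRingCat.of k))
  have hnorm : Pi1.IsNormalScheme X := fun x => by
    haveI := VarietyLib.isRegularLocalRing_stalk_of_smooth k X (X ↘ Spec (CommRingCat.of k)) x
    haveI : UniqueFactorizationMonoid (X.presheaf.stalk x) := CAlgH3.ufm_of_regular _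
    exact ⟨inferInstance, inferInstance⟩
  let η := genericPoint X
  have hO := Coherent.isCoh_structureModule X
  have hOr : ∀ x : X, RefHull.IsReflexiveAt (Coh.structureModule X) x := fun x =>
    RefHullLib.isReflexiveAt_of_gen (SDiv28.unitStalkEquiv x).bijective
  have hns : ∀ {K : X.IdealSheafData}, (K.support : Set X).Finite → ∀ y : X,
      ringKrullDim (X.presheaf.stalk y) = 1 → y ∉ K.support := fun {K} hK y hy hmem =>
    dim_stalk_ne_one_of_closed k hdim (Surf15.isClosed_of_mem_finite_closed hK K.support.2 hmem) hy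
  have hgen : ∀ {K : X.IdealSheafData}, (K.support : Set X).Finite →
      Function.Bijective (RefHull.stalkMapₗ (ClSub.idealModι K) η) := fun {K} hK => by
    refine ⟨?_, surjective_idealModι_stalk fun hmem => ?_⟩
    · haveI := CurveRR24.shortExact_ideal K |>.mono_f
      exact (ModuleCat.mono_iff_injective ((St η).map (ClSub.idealModι K))).1 inferInstance
    · have hcl := Surf15.isClosed_of_mem_finite_closed hK K.support.2 hmem
      have huniv : (Set.univ : Set X) = {η} := by
        rw [← genericPoint_closure, hcl.closure_eq]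
      have : topologicalKrullDim X ≤ 0 := by
        haveI : Subsingleton X := ⟨fun a b => by
          have ha : a ∈ ({η} : Set X) := huniv ▸ trivial
          have hb : b ∈ ({η} : Set X) := huniv ▸ trivial
          exact ha.trans hb.symm⟩
        haveI : DiscreteTopology X := inferInstance
        exact topologicalKrullDim_zero_of_discreteTopology _
      exact absurd (hdim.trans this) (by decide)
  have hext : ∀ {A B : X.IdealSheafData}, (A.support : Set X).Finite → (B.support : Set X).Finite →
      ∀ β : ClSub.idealMod A ⟶ ClSub.idealMod B,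
      ∃ ψ : Coh.structureModule X ⟶ Coh.structureModule X,
        ClSub.idealModι A ≫ ψ = β ≫ ClSub.idealModι B := fun {A B} hA hB β => by
    let e := LinearEquiv.ofBijective (RefHull.stalkMapₗ (ClSub.idealModι A) η) (hgen hA)
    obtain ⟨ψ, hψ⟩ := RefHullLib.exists_hom_of_genericMap hnorm hO hOr
      ((RefHull.stalkMapₗ (β ≫ ClSub.idealModι B) η).comp e.symm.toLinearMap) fun y hy v => by
        obtain ⟨w, rfl⟩ := surjective_idealModι_stalk (hns hA y hy) v
        refine ⟨RefHull.stalkMapₗ (β ≫ ClSub.idealModι B) y w, ?_⟩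
        rw [RefHullLib.toGen_stalkMap, RefHullLib.toGen_stalkMap]
        exact congrArg (RefHull.stalkMapₗ (β ≫ ClSub.idealModι B) η) (e.symm_apply_apply _).symm
    refine ⟨ψ, RefHullLib.hom_ext_genericPoint hO hOr (LinearMap.ext fun v => ?_)⟩
    rw [RankOneHull.stalkMapₗ_comp, hψ]
    exact congrArg (RefHull.stalkMapₗ (β ≫ ClSub.idealModι B) η) (e.symm_apply_apply v)
  obtain ⟨ψ, hψ⟩ := hext hI hJ α.hom
  obtain ⟨ψ', hψ'⟩ := hext hJ hI α.inv
  have hid : ψ' ≫ ψ = 𝟙 _ := by
    refine RefHullLib.hom_ext_genericPoint hO hOr (LinearMap.ext fun v => ?_)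
    obtain ⟨w, rfl⟩ := (hgen hJ).2 v
    rw [← RankOneHull.stalkMapₗ_comp, ← RankOneHull.stalkMapₗ_comp, Category.comp_id, ← Category.assoc, hψ',
      Category.assoc, hψ, Iso.inv_hom_id_assoc]
  intro U f hf
  have hker : ∀ (K : X.IdealSheafData) (g : Γ(X, U.1)), g ∈ K.ideal U ↔
      ∃ c : Γ(ClSub.idealMod K, U.1), (ClSub.idealModι K).app U.1 c = g := fun K g => by
    rw [← K.ker_subschemeι_app U, RingHom.mem_ker]
    exact (AmpleLib.mem_range_idealModι K U.1 g).symm
  obtain ⟨c, hc⟩ := (hker I f).1 hf
  let one : Γ(Coh.structureModule X, U.1) := (1 : Γ(X, U.1))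
  let a : Γ(X, U.1) := ψ.app U.1 one
  let b : Γ(X, U.1) := ψ'.app U.1 one
  have hmul : ∀ (φ : Coh.structureModule X ⟶ Coh.structureModule X) (g : Γ(X, U.1)),
      (show Γ(X, U.1) from φ.app U.1 (show Γ(Coh.structureModule X, U.1) from g)) =
        g * (show Γ(X, U.1) from φ.app U.1 one) := fun φ g => by
    have h := Scheme.Modules.Hom.app_smul φ g one
    refine Eq.trans ?_ h
    exact congrArg _ (mul_one g).symm
  have hab : b * a = 1 := by
    rw [← hmul ψ b]
    exact congr(($hid).app U.1 one)
  have hfa : f * a ∈ J.ideal U := (hker J _).2 ⟨α.hom.app U.1 c, by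
    rw [← hmul ψ f]
    refine Eq.trans ?_ (congrArg (ψ.app U.1) hc)
    exact congr(($hψ).app U.1 c).symm⟩
  have := Ideal.mul_mem_right b (J.ideal U) hfa
  rwa [mul_assoc, mul_comm a b, hab, mul_one] at this

end

end Groth.Agent.Mod22.PointsIdeal
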