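import Groth.Agent.EulerLib.SlopeBasic
import Groth.Agent.EulerLib.Positive
import Groth.Agent.EulerLib.StalkAdditive
import Groth.Agent.CurveRR24.Sky
import Groth.Agent.Inters29.PrimeDiv
import Groth.Agent.AbCubeLib.ExistsAmple
import Groth.Agent.DimLib.Components
import Groth.Agent.PicTau27.Locus
import Groth.Agent.SDiv28.WeakAssPoints
import Groth.Agent.AssSch12.Uniq
import Groth.Agent.Surf15.MultCurve
import Groth.Agent.Coherent.ProjSpaceBC
import Groth.Agent.Props12.FinLocFree
import Groth.Agent.CAlgH3.Factorial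
import Groth.Prelude.Def_PicGrp

/-!
# Slopes of rank-one modules on a surface of Picard number one
-/

set_option autoImplicit false
set_option linter.style.haveILetI false
set_option linter.unusedSectionVars false
set_option backward.isDefEq.respectTransparency.types false
set_option maxHeartbeats 1000000

universe u

open CategoryTheory CategoryTheory.Limits AlgebraicGeometry Opposite TopologicalSpace Polynomial StabCat
open Groth.Agent.Coherent Groth.Agent.PicLib Groth.Agent.AmpleLib Groth.Agent.EulerLib Groth.Agent.DimLib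
open Groth.Agent.AssSch12

namespace Groth.Agent.Mod22.RankOneSlope

theorem le_one_of_lt {x : WithBot ℕ∞} (h : x < ((2 : ℕ) : WithBot ℕ∞)) : x ≤ ((1 : ℕ) : WithBot ℕ∞) := by
  cases x with
  | bot => exact bot_le
  | coe a => exact WithBot.coe_le_coe.2 (Order.le_of_lt_add_one (by simpa [one_add_one_eq_two] using WithBot.coe_lt_coe.1 h))

theorem alpha_comp_shift {P : ℚ[X]} (h : P.natDegree ≤ 2) (c : ℚ) :
    alpha 2 (P.comp (Polynomial.X + C c)) = alpha 2 P ∧
      alpha 1 (P.comp (Polynomial.X + C c)) = alpha 1 P + c * alpha 2 P := by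
  have hP : P = C (P.coeff 2) * Polynomial.X ^ 2 + C (P.coeff 1) * Polynomial.X + C (P.coeff 0) :=
    P.eq_quadratic_of_degree_le_two (Polynomial.degree_le_of_natDegree_le h)
  have hc : P.comp (Polynomial.X + C c) = C (P.coeff 2) * Polynomial.X ^ 2 +
      C (P.coeff 1 + 2 * c * P.coeff 2) * Polynomial.X + C (P.coeff 0 + c * P.coeff 1 + c ^ 2 * P.coeff 2) := by
    conv_lhs => rw [hP]
    refine Polynomial.funext fun r => ?_
    simp only [Polynomial.eval_comp, Polynomial.eval_add, Polynomial.eval_mul, Polynomial.eval_pow,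
      Polynomial.eval_X, Polynomial.eval_C]
    ring
  generalize P.coeff 0 + c * P.coeff 1 + c ^ 2 * P.coeff 2 = d at hc
  constructor <;> rw [hc] <;> simp [alpha, Polynomial.coeff_C] <;> ring

section

variable {S : Scheme.{u}} [IsIntegral S] [IsLocallyNoetherian S]

local notation "St" => DerSch.stalkFunctor S
local notation "η" => genericPoint S

theorem isZero_of_torsionFree {F : S.Modules} (hF : Coh.IsQCoh F) (ht : TorSh.IsTorsionFree F)
    (h : η ∉ CohB1.support F) : IsZero F := by
  have hs : Subsingleton (F.presheaf.stalk η) := not_not.1 fun h' => h fun hs => h' hs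
  have hass : AssSch.Ass F ⊆ {η} := fun x hx => by
    haveI := ht x
    exact SDiv28.eq_genericPoint_of_mem_ass_of_noZeroSMulDivisors _
      ⟨fun {c m} hcm => smul_eq_zero.1 hcm⟩ hx
  rw [IsZero.iff_id_eq_zero]
  exact Scheme.Modules.hom_ext _ _ fun U => ConcreteCategory.hom_ext _ _ fun a =>
    eq_zero_of_germ_generic hF hass _ fun hη => hs.elim _ _

theorem support_eq_univ {F : S.Modules} (hF : Coh.IsCoh F) (ht : TorSh.IsTorsionFree F) (h0 : ¬ IsZero F) :
    CohB1.support F = Set.univ := by
  have hη : η ∈ CohB1.support F := not_not.1 fun h => h0 (isZero_of_torsionFree hF.1 ht h)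
  refine Set.eq_univ_of_univ_subset ?_
  rw [← genericPoint_closure]
  exact closure_subset_support hF hη

theorem isTorsionFree_of_invertible {L : S.Modules} (hL : PicF.IsInvertible L) : TorSh.IsTorsionFree L := fun x => by
  have hf := Coherent.isFinLocFree_of_invertible hL
  haveI := (CohBC.isCoh_of_isFinLocFree hf).1
  haveI := Props12.free_stalk_of_isFinLocFree L hf x
  infer_instance

/-- A nonzero submodule of an invertible module is all of it at the generic point. -/
theorem generic_notMem_cokernel {L F : S.Modules} (hL : PicF.IsInvertible L) (q : F ⟶ L) [Mono q]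
    (hF : Coh.IsCoh F) (h0 : ¬ IsZero F) : η ∉ CohB1.support (cokernel q) := by
  let _ : Field (S.presheaf.stalk η) := inferInstanceAs (Field S.functionField)
  have hLc := CohBC.isCoh_of_isFinLocFree (Coherent.isFinLocFree_of_invertible hL)
  have hη : η ∈ CohB1.support F := not_not.1 fun h =>
    h0 (isZero_of_torsionFree hF.1 (Surf15.isTorsionFree_of_mono q (isTorsionFree_of_invertible hL)) h)
  have hr : Module.finrank (S.presheaf.stalk η) (L.presheaf.stalk η) = 1 := PicTau27.finrank_stalk_invertible hL η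
  have hinj : Function.Injective ((St η).map q) := (ModuleCat.mono_iff_injective _).1 inferInstance
  let l : ((St η).obj F) →ₗ[S.presheaf.stalk η] ((St η).obj L) := ((St η).map q).hom
  haveI : Nontrivial ((St η).obj F) := not_subsingleton_iff_nontrivial.1 hη
  haveI : Module.Finite (S.presheaf.stalk η) ((St η).obj L) := Module.finite_of_finrank_eq_succ hr
  have hl : Function.Injective l := hinj
  have hs : Function.Surjective l := by
    rw [← LinearMap.range_eq_top]
    apply Submodule.eq_top_of_finrank_eq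
    haveI : Module.Finite (S.presheaf.stalk η) ((St η).obj F) := Module.Finite.of_injective l hl
    have h1 : 0 < Module.finrank (S.presheaf.stalk η) ((St η).obj F) := Module.finrank_pos
    have h2 := LinearMap.finrank_range_of_inj hl
    have h3 := Submodule.finrank_le (LinearMap.range l)
    have h4 : Module.finrank (S.presheaf.stalk η) ((St η).obj L) = 1 := hr
    omega
  exact fun h => h (subsingleton_of_forall_eq 0 fun a => by
    obtain ⟨b, rfl⟩ := (ModuleCat.epi_iff_surjective ((St η).map (cokernel.π q))).1 inferInstance a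
    obtain ⟨c, rfl⟩ := hs b
    refine (stalk_comp_apply _ _ _).trans ?_
    rw [cokernel.condition]
    exact stalk_zero_apply _)

end

section Surface

variable (k : Type u) [Field k] {S : Scheme.{u}} [S.Over (Spec (CommRingCat.of k))]
  [IsProper (S ↘ Spec (CommRingCat.of k))] [IsIntegral S]

theorem dim_univ (hdim : topologicalKrullDim S = 2) : topologicalKrullDim (Set.univ : Set S) = (2 : ℕ) := by
  rw [(Homeomorph.Set.univ S).isHomeomorph.topologicalKrullDim_eq, hdim]
  rfl

variable (hdim : topologicalKrullDim S = 2) {L : S.Modules} (hL : CohB1.IsAmple L)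

include hdim in
theorem dim_le_one [IsLocallyNoetherian S] {M : S.Modules} (hM : Coh.IsCoh M) (h : genericPoint S ∉ CohB1.support M) :
    topologicalKrullDim (CohB1.support M) ≤ (1 : ℕ) := by
  have h2 := dim_lt_of_notMem (isClosed_support M (locallyFinGen_of_isFT M hM.2)) (Set.subset_univ _)
    isClosed_univ (genericPoint_closure S) h (dim_univ hdim).le
  exact le_one_of_lt h2

include hdim hL in
/-- The multiplicities of a nonzero submodule of an invertible module. -/
theorem alpha_two_of_sub [IsLocallyNoetherian S] {L' F : S.Modules} (hL' : PicF.IsInvertible L') (q : F ⟶ L') [Mono q]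
    (hF : Coh.IsCoh F) (h0 : ¬ IsZero F) {pF pL : ℚ[X]} (hpF : ShStab.IsHilbPoly k S L F pF)
    (hpL : ShStab.IsHilbPoly k S L L' pL) :
    ∃ R : ℚ[X], ShStab.IsHilbPoly k S L (cokernel q) R ∧ Coh.IsCoh (cokernel q) ∧
      topologicalKrullDim (CohB1.support (cokernel q)) ≤ (1 : ℕ) ∧
      alpha 2 pF = alpha 2 pL ∧ alpha 1 pF = alpha 1 pL - alpha 1 R ∧ 0 ≤ alpha 1 R := by
  have hLc := CohBC.isCoh_of_isFinLocFree (Coherent.isFinLocFree_of_invertible hL')
  have hc := isCoh_cokernel q hF.1 hLc
  have h1 := dim_le_one hdim hc (generic_notMem_cokernel hL' q hF h0)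
  have hR := isHilbPoly_hp k hL _ hc
  have e : pL = pF + hp k hL _ hc := hilb_ses k hL (shortExact_cokernel q) hF hLc hc hpF hpL hR
  have h2 : alpha 2 (hp k hL _ hc) = 0 :=
    alpha_eq_zero_of_dim_lt k hL.1 hc hR (lt_of_le_of_lt h1 (by exact_mod_cast (by omega : (1 : ℕ) < 2)))
  refine ⟨_, hR, hc, h1, ?_, ?_, alpha_nonneg k hL hc hR h1⟩
  · rw [e, alpha_add, h2, add_zero]
  · rw [e, alpha_add, add_sub_cancel_right]

theorem natDegree_le {M : S.Modules} (hM : Coh.IsCoh M) (hdim : topologicalKrullDim S = 2) (hL : PicF.IsInvertible L)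
    {P : ℚ[X]} (hP : ShStab.IsHilbPoly k S L M P) : P.natDegree ≤ 2 :=
  (alpha_eq_interDeg k hL hM hP ((dim_mono (Set.subset_univ _)).trans (dim_univ hdim).le)).1

theorem eval_eq_chiCl (hL : PicF.IsInvertible L) {J : S.Modules} (hJ : PicF.IsInvertible J) {P : ℚ[X]}
    (hP : ShStab.IsHilbPoly k S L J P) (m : ℕ) :
    P.eval (m : ℚ) = chiCl k (Coh.structureModule S) (InvCl.mk J hJ * InvCl.mk L hL ^ m) := by
  rw [← hP m, euler_twist_eq k hL, chiCl_mul,
    chiCl_congr k (unitTensorIso J : CohB1.tensorMod (Coh.structureModule S) J ≅ J)]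

theorem poly_of_mk_eq_pow {hL : PicF.IsInvertible L} {J : S.Modules} (hJ : PicF.IsInvertible J) {P PO : ℚ[X]}
    (hP : ShStab.IsHilbPoly k S L J P) (hPO : ShStab.IsHilbPoly k S L (Coh.structureModule S) PO) {n : ℕ}
    (h : InvCl.mk J hJ = InvCl.mk L hL ^ n) : P = PO.comp (Polynomial.X + C (n : ℚ)) := by
  refine poly_ext fun m => ?_
  rw [eval_eq_chiCl k hL hJ hP m, h, ← pow_add, Polynomial.eval_comp]
  simp only [Polynomial.eval_add, Polynomial.eval_X, Polynomial.eval_C]
  rw [← Nat.cast_add, eval_eq_chiCl k hL isInvertible_structureModule hPO (m + n), add_comm n m]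
  show ((chiCl k _ _ : ℤ) : ℚ) = ((chiCl k _ (1 * _) : ℤ) : ℚ)
  rw [one_mul]

theorem poly_of_mk_mul_pow {hL : PicF.IsInvertible L} {J : S.Modules} (hJ : PicF.IsInvertible J) {P PO : ℚ[X]}
    (hP : ShStab.IsHilbPoly k S L J P) (hPO : ShStab.IsHilbPoly k S L (Coh.structureModule S) PO) {n : ℕ}
    (h : InvCl.mk J hJ * InvCl.mk L hL ^ n = 1) : PO = P.comp (Polynomial.X + C (n : ℚ)) := by
  refine poly_ext fun m => ?_
  rw [Polynomial.eval_comp]
  simp only [Polynomial.eval_add, Polynomial.eval_X, Polynomial.eval_C]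
  rw [← Nat.cast_add, eval_eq_chiCl k hL hJ hP (m + n), eval_eq_chiCl k hL isInvertible_structureModule hPO m,
    add_comm m n, pow_add, ← mul_assoc, h]
  rfl

include hdim hL in
/-- An integral curve has degree at least the self-intersection of the generator. -/
theorem alpha_clM_ge [PicGrp.Law S] (hreg : ∀ x : S, IsRegularLocalRing (S.presheaf.stalk x))
    (hgen : ∀ c : PicLoc.PicSet S, ∃ n : ℤ, c = PicGrp.cls L hL.1 ^ n)
    {ξ : S} (hξ : topologicalKrullDim (closure {ξ} : Set S) = (1 : ℕ)) {PO PC : ℚ[X]}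
    (hPO : ShStab.IsHilbPoly k S L (Coh.structureModule S) PO) (hPC : ShStab.IsHilbPoly k S L (clM ξ) PC) :
    alpha 2 PO ≤ alpha 1 PC := by
  haveI := isNoetherian_of_proper (k := k) (X := S)
  have hne : ξ ≠ genericPoint S := fun h => by
    rw [h, genericPoint_closure, dim_univ hdim] at hξ
    exact absurd hξ (by exact_mod_cast (by omega : (2 : ℕ) ≠ 1))
  have hgen' : SDiv28.CartierPart.gen (clI ξ) = ξ := by
    have h1 := (genericPoint_spec (clI ξ).subscheme).image (clI ξ).subschemeι.continuous
    rw [Set.image_univ, range_clι, closure_closure] at h1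
    exact h1.eq isGenericPoint_closure
  have hcod : Order.coheight ξ ≤ 1 := by
    refine (Order.coheight_le_coe_iff (n := 1)).2 fun ζ hζ => ?_
    rw [Nat.cast_one, Order.lt_one_iff_nonpos, nonpos_iff_eq_zero, Order.coheight_eq_zero]
    intro z hz
    by_contra hzz
    have hζη : ζ ≠ genericPoint S := fun h => hzz (h ▸ ((genericPoint_spec S).specializes trivial))
    have hlt : topologicalKrullDim (closure {ζ} : Set S) < (2 : ℕ) :=
      dim_lt_of_notMem isClosed_closure (Set.subset_univ _) isClosed_univ (genericPoint_closure S)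
        (fun hmem => hζη (((genericPoint_spec S).specializes trivial).antisymm
          (specializes_iff_mem_closure.2 hmem)).eq.symm) (dim_univ hdim).le
    have hsp : ζ ⤳ ξ := hζ.le
    have h1 : topologicalKrullDim (closure {ζ} : Set S) ≤ (1 : ℕ) :=
      le_one_of_lt hlt
    exact absurd hξ (ne_of_lt (dim_lt_of_notMem isClosed_closure (isClosed_closure.closure_subset_iff.2 (Set.singleton_subset_iff.2 (specializes_iff_mem_closure.1 hsp))) isClosed_closure
      rfl (fun hmem => hζ.not_ge (specializes_iff_mem_closure.2 hmem)) h1))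
  have hI : BlowUp.IsEffCartierIdeal (clI ξ) :=
    Inters29.isEffCartier_of_coheight_one hreg _ (hgen'.symm ▸ hcod) (hgen'.symm ▸ hne)
  let I := ClSub.idealMod (clI ξ)
  have hIi : PicF.IsInvertible I :=
    AbCubeLib.isInvertible_idealMod _ hI
  have hIc := CohBC.isCoh_of_isFinLocFree (Coherent.isFinLocFree_of_invertible hIi)
  have hOc : Coh.IsCoh (Coh.structureModule S) := Coherent.isCoh_structureModule S
  have hPI := isHilbPoly_hp k hL I hIc
  have hPC0 : alpha 1 PC > 0 := alpha_pos k hL (isCoh_clM ξ) hPC (by rw [support_clM, hξ])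
  have hadd : PO = hp k hL I hIc + PC :=
    hilb_ses k hL (CurveRR24.shortExact_ideal (clI ξ)) hIc hOc (isCoh_clM ξ) hPI hPO hPC
  have ha : 0 < alpha 2 PO := alpha_pos k hL hOc hPO (by
    rw [support_eq_univ hOc (isTorsionFree_of_invertible isInvertible_structureModule) (fun h => by
      have := h.eq_of_src (𝟙 _) 0
      exact one_ne_zero (α := Γ(S, ⊤)) (congrArg (fun φ : Coh.structureModule S ⟶ Coh.structureModule S =>
        φ.app ⊤ (1 : Γ(S, ⊤))) this)), dim_univ hdim])
  obtain ⟨z, hz⟩ := hgen (PicGrp.cls I hIi)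
  cases z with
  | ofNat n =>
    have hz' : PicGrp.cls I hIi = PicGrp.cls L hL.1 ^ n := by simpa using hz
    obtain ⟨e⟩ := (PicGrp.cl_eq_cl_iff _ _).1
      ((congrArg Subtype.val hz').trans (PicGrp.cls_pow_val hL.1 n))
    have hmk : InvCl.mk I hIi = InvCl.mk L hL.1 ^ n :=
      (InvCl.mk_eq hIi (isInvertible_tensorPow hL.1 n) e).trans (InvCl.mk_tensorPow hL.1 n)
    have e1 := (alpha_comp_shift (natDegree_le k hOc hdim hL.1 hPO) n).2
    rw [← poly_of_mk_eq_pow k hIi hPI hPO hmk] at e1
    have e2 : alpha 1 PO = alpha 1 (hp k hL I hIc) + alpha 1 PC := by rw [hadd, alpha_add]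
    nlinarith [Nat.cast_nonneg (α := ℚ) n]
  | negSucc n =>
    have hz' : PicGrp.cls I hIi * PicGrp.cls L hL.1 ^ (n + 1) = 1 := by
      rw [hz, zpow_negSucc, inv_mul_cancel]
    have hv := congrArg Subtype.val hz'
    rw [PicGrp.mul_val, PicGrp.cls_pow_val, PicGrp.cls_val, PicGrp.mulCl_cl, PicGrp.one_val] at hv
    obtain ⟨e⟩ := (PicGrp.cl_eq_cl_iff _ _).1 hv
    have hmk : InvCl.mk I hIi * InvCl.mk L hL.1 ^ (n + 1) = 1 := by
      rw [← InvCl.mk_tensorPow hL.1 (n + 1), InvCl.mk_mul]
      exact InvCl.mk_eq _ _ e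
    have hs := alpha_comp_shift (natDegree_le k hIc hdim hL.1 hPI) ((n + 1 : ℕ) : ℚ)
    rw [← poly_of_mk_mul_pow k hIi hPI hPO hmk] at hs
    have e2 : alpha 1 PO = alpha 1 (hp k hL I hIc) + alpha 1 PC := by rw [hadd, alpha_add]
    have e3 : (1 : ℚ) ≤ ((n + 1 : ℕ) : ℚ) := by exact_mod_cast Nat.le_add_left 1 n
    nlinarith [hs.1, hs.2]

include hL in
/-- A module with a curve in its support has at least the degree of the curve. -/
theorem alpha_ge_clM {ξ : S} (hξ : topologicalKrullDim (closure {ξ} : Set S) = (1 : ℕ)) {R : S.Modules}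
    (hR : Coh.IsCoh R) (hd : topologicalKrullDim (CohB1.support R) ≤ (1 : ℕ)) (hmem : ξ ∈ CohB1.support R)
    {PR PC : ℚ[X]} (hPR : ShStab.IsHilbPoly k S L R PR) (hPC : ShStab.IsHilbPoly k S L (clM ξ) PC) :
    alpha 1 PC ≤ alpha 1 PR := by
  haveI := isNoetherian_of_proper (k := k) (X := S)
  let c : Fin 1 → InvCl S := fun _ => InvCl.mk L hL.1
  let I : S.Modules → ℤ := fun M => interDeg c (chiCl k M)
  have nonneg : ∀ M : S.Modules, Coh.IsCoh M → topologicalKrullDim (CohB1.support M) ≤ (1 : ℕ) → 0 ≤ I M :=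
    fun M hM h => by
      rcases h.lt_or_eq with h' | h'
      · exact (interDeg_eq_zero c (finDeg_chiCl k hM h')).ge
      · exact (interDeg_pos k 1 (fun _ => L) (fun _ => hL) M hM h').le
  let K : S.Modules → Prop := fun M =>
    Coh.IsCoh M → topologicalKrullDim (CohB1.support M) ≤ (1 : ℕ) → ξ ∈ CohB1.support M → I (clM ξ) ≤ I M
  have hK : ExtClass K :=
    { iso := fun e h hM hd hm => by
        have hd' := hd
        rw [support_eq_of_iso e.symm] at hd' hm
        show I (clM ξ) ≤ interDeg c (chiCl k _)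
        rw [← chiCl_congr k e]
        exact h (Coherent.isCoh_of_iso e.symm hM) hd' hm
      zero := fun M hM _ _ hm => absurd hm (fun h => by
        have := Set.subset_empty_iff.1 (support_of_isZero hM ∅)
        rw [this] at h
        exact h)
      ext := fun T hT h₁ h₂ h₃ a b _ hd hm => by
        haveI := hT.mono_f
        haveI := hT.epi_g
        have ha := (dim_mono (support_subset_of_mono T.f)).trans hd
        have hb := (dim_mono (support_subset_of_epi T.g)).trans hd
        have e : I T.X₂ = I T.X₁ + I T.X₃ := by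
          show interDeg c (chiCl k T.X₂) = _
          rw [chiCl_additive k T hT h₁ h₂ h₃, interDeg_add_fun]
        show I (clM ξ) ≤ I T.X₂
        rcases support_X₂_subset hT hm with h | h
        · have := a h₁ ha h
          have := nonneg _ h₃ hb
          omega
        · have := b h₃ hb h
          have := nonneg _ h₁ ha
          omega }
  have key := mem_of_ideals hK Set.univ (fun y _ J ι hι hJ hJ0 => ?_) R hR (Set.subset_univ _) hR hd hmem
  · have h1 := (alpha_eq_interDeg k hL.1 hR hPR hd).2
    have h2 := (alpha_eq_interDeg k hL.1 (isCoh_clM ξ) hPC (by rw [support_clM, hξ])).2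
    rw [h1, h2]
    exact_mod_cast key
  intro hM hd hm
  let i := (clI y).subschemeι
  haveI := hι
  haveI : Mono ((Coh.push i).map ι) :=
    haveI : (Coh.push i).IsRightAdjoint := (Scheme.Modules.pullbackPushforwardAdjunction i).isRightAdjoint
    inferInstance
  let j : (Coh.push i).obj J ⟶ clM y := (Coh.push i).map ι
  haveI : Mono j := inferInstanceAs (Mono ((Coh.push i).map ι))
  have hy : y ∈ CohB1.support ((Coh.push i).obj J) := by
    by_contra hy
    have h0 : (Coh.push i).map (𝟙 J) = (Coh.push i).map 0 := (isZero_of_mono_clM j hM hy).eq_of_src _ _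
    exact hJ0 ((IsZero.iff_id_eq_zero J).2 ((Coh.push i).map_injective h0))
  have hsub : CohB1.support ((Coh.push i).obj J) = closure {y} :=
    ((support_subset_of_mono j).trans (support_clM_subset y)).antisymm (closure_subset_support hM hy)
  rw [hsub] at hd hm
  by_cases hyξ : y ∈ closure ({ξ} : Set S)
  · have heq : y = ξ := ((specializes_iff_mem_closure.2 hm).antisymm (specializes_iff_mem_closure.2 hyξ)).eq
    subst heq
    have hc : Coh.IsCoh (cokernel j) := isCoh_cokernel j hM.1 (isCoh_clM y)
    have hcy : y ∉ CohB1.support (cokernel j) := fun hy' => hy' (subsingleton_of_forall_eq 0 fun a => by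
      obtain ⟨x, rfl⟩ := (ModuleCat.epi_iff_surjective
        ((DerSch.stalkFunctor S y).map (cokernel.π j))).1 inferInstance a
      obtain ⟨w, rfl⟩ := surjective_stalk_of_mono_clM j hy x
      refine (stalk_comp_apply _ _ _).trans ?_
      rw [cokernel.condition]
      exact stalk_zero_apply _)
    have hlt := dim_lt_of_notMem (isClosed_support _ (locallyFinGen_of_isFT _ hc.2))
      ((support_subset_of_epi (cokernel.π j)).trans (support_clM_subset y)) isClosed_closure rfl hcy hd
    have e : I (clM y) = I ((Coh.push i).obj J) + I (cokernel j) := by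
      show interDeg c _ = _
      rw [chiCl_additive k (ShortComplex.mk j (cokernel.π j) (cokernel.condition j))
        { exact := ShortComplex.exact_cokernel j } hM (isCoh_clM y) hc, interDeg_add_fun]
    have hz : I (cokernel j) = 0 := interDeg_eq_zero c (finDeg_chiCl k hc hlt)
    show I (clM y) ≤ I ((Coh.push i).obj J)
    omega
  · exfalso
    exact (dim_lt_of_notMem isClosed_closure
      (isClosed_closure.closure_subset_iff.2 (Set.singleton_subset_iff.2 hm)) isClosed_closure rfl hyξ hd).ne hξ

include k in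
/-- A closed set of dimension exactly one contains a curve. -/
theorem exists_curve {T : Set S} (hT : IsClosed T) (h1 : topologicalKrullDim T ≤ (1 : ℕ))
    (h0 : ¬ topologicalKrullDim T ≤ (0 : ℕ)) :
    ∃ ξ ∈ T, topologicalKrullDim (closure {ξ} : Set S) = (1 : ℕ) := by
  let p := S ↘ Spec (CommRingCat.of k)
  rw [topologicalKrullDim_closed_eq_iSup p hT] at h0
  obtain ⟨x, hx⟩ : ∃ x : T, ¬ (ptDim p x.1 : WithBot ℕ∞) ≤ (0 : ℕ) := by
    by_contra h
    push Not at h
    exact h0 (iSup_le h)
  refine ⟨x.1, x.2, le_antisymm ((dim_mono (hT.closure_subset_iff.2 (Set.singleton_subset_iff.2 x.2))).trans h1) ?_⟩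
  rw [topologicalKrullDim_closed_eq_iSup p isClosed_closure]
  refine le_trans ?_ (le_iSup (fun y : closure ({x.1} : Set S) => (ptDim p y.1 : WithBot ℕ∞))
    ⟨x.1, subset_closure rfl⟩)
  have : ¬ ptDim p x.1 ≤ 0 := fun h => hx (by exact_mod_cast h)
  exact_mod_cast (by omega : 1 ≤ ptDim p x.1)

end Surface

end Groth.Agent.Mod22.RankOneSlope
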