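import Groth.Agent.RefHullLib.ClassLaw
import Groth.Agent.Hyper5.QCohExt
import Groth.Agent.Frob15.TopForm
import Groth.Prelude.Def_ExtPow2
import Groth.Agent.Mod22.LatticeDet

/-!
# The top exterior power at the generic point and in codimension one
-/

set_option autoImplicit false
set_option linter.style.haveILetI false
set_option linter.unusedSectionVars false
set_option backward.isDefEq.respectTransparency.types false
universe u

open CategoryTheory CategoryTheory.Limits AlgebraicGeometry Opposite TopologicalSpace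
open Groth.Agent.Coherent Groth.Agent.PicLib Groth.Agent.RefHullLib

namespace Groth.Agent.Mod22

variable {X : Scheme.{u}} [IsIntegral X] [IsLocallyNoetherian X] {F L : X.Modules} {r : ℕ}

local notation "η" => genericPoint X

/-- A common affine open realizing finitely many equalities of germs at a point. -/
theorem exists_affine_of_germ_eq {M : X.Modules} {ι : Type} [Finite ι] {U : X.Opens} {x : X} (hx : x ∈ U)
    (s t : ι → Γ(M, U)) (h : ∀ i, M.presheaf.germ U x hx (s i) = M.presheaf.germ U x hx (t i)) :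
    ∃ (V : X.Opens) (hV : IsAffineOpen V) (hVU : V ≤ U), x ∈ V ∧ ∀ i, resM M hVU (s i) = resM M hVU (t i) := by
  choose W hxW a b hW using fun i => M.presheaf.germ_eq x hx hx _ _ (h i)
  cases nonempty_fintype ι
  obtain ⟨V, hV, hxV, hVle⟩ := exists_isAffineOpen_mem_and_subset (x := x) (U := (Finset.univ.inf W) ⊓ U)
    ⟨mem_finset_inf_of_forall hxW, hx⟩
  have hVi : ∀ i, V ≤ W i := fun i z hz => (Finset.inf_le (Finset.mem_univ i) : Finset.univ.inf W ≤ W i) (hVle hz).1
  refine ⟨V, hV, fun z hz => (hVle hz).2, hxV, fun i => ?_⟩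
  have h1 := congrArg (resM M (hVi i)) (hW i)
  change resM M (hVi i) (resM M _ (s i)) = resM M (hVi i) (resM M _ (t i)) at h1
  rwa [resM_resM, resM_resM] at h1

/-- Finitely many germs at a point are germs of sections over one affine open. -/
theorem exists_affine_of_germs {M : X.Modules} {ι : Type} [Finite ι] {U : X.Opens} {x : X} (hx : x ∈ U)
    (v : ι → M.presheaf.stalk x) :
    ∃ (V : X.Opens) (_ : IsAffineOpen V) (hxV : x ∈ V) (_ : V ≤ U) (s : ι → Γ(M, V)),
      ∀ i, M.presheaf.germ V x hxV (s i) = v i := by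
  choose W hxW a ha using fun i => M.presheaf.exists_germ_eq (v i)
  cases nonempty_fintype ι
  obtain ⟨V, hV, hxV, hVle⟩ := exists_isAffineOpen_mem_and_subset (x := x) (U := (Finset.univ.inf W) ⊓ U)
    ⟨mem_finset_inf_of_forall hxW, hx⟩
  have hVi : ∀ i, V ≤ W i := fun i z hz => (Finset.inf_le (Finset.mem_univ i) : Finset.univ.inf W ≤ W i) (hVle hz).1
  exact ⟨V, hV, hxV, fun z hz => (hVle hz).2, fun i => resM M (hVi i) (a i),
    fun i => (TopCat.Presheaf.germ_res_apply M.presheaf (homOfLE (hVi i)) x hxV _).trans (ha i)⟩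

/-- Finitely many elements of a local ring are germs of functions on one affine open. -/
theorem exists_affine_of_scalars {ι : Type} [Finite ι] {U : X.Opens} {x : X} (hx : x ∈ U)
    (v : ι → X.presheaf.stalk x) :
    ∃ (V : X.Opens) (_ : IsAffineOpen V) (hxV : x ∈ V) (_ : V ≤ U) (s : ι → Γ(X, V)),
      ∀ i, X.presheaf.germ V x hxV (s i) = v i := by
  choose W hxW a ha using fun i => X.presheaf.exists_germ_eq (v i)
  cases nonempty_fintype ι
  obtain ⟨V, hV, hxV, hVle⟩ := exists_isAffineOpen_mem_and_subset (x := x) (U := (Finset.univ.inf W) ⊓ U)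
    ⟨mem_finset_inf_of_forall hxW, hx⟩
  have hVi : ∀ i, V ≤ W i := fun i z hz => (Finset.inf_le (Finset.mem_univ i) : Finset.univ.inf W ≤ W i) (hVle hz).1
  exact ⟨V, hV, hxV, fun z hz => (hVle hz).2, fun i => res (hVi i) (a i),
    fun i => (TopCat.Presheaf.germ_res_apply X.presheaf (homOfLE (hVi i)) x hxV _).trans (ha i)⟩

/-- The top wedge of a basis of the generic stalk is a generator of the generic stalk of the exterior power,
and all germs of wedges are determinants in this basis. -/
theorem exists_wedge (hF : Coh.IsQCoh F) (hL : ExtPow.IsExtPow r F L)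
    (φ : ∀ U : X.affineOpens, (L.val.obj (op U.1)) ≃ₗ[Γ(X, U.1)] ↥(⋀[Γ(X, U.1)]^r (F.val.obj (op U.1))))
    (hφ : ∀ (U V : X.affineOpens) (h : V.1 ≤ U.1) (e : Fin r → F.val.obj (op U.1)),
      L.val.map (homOfLE h).op ((φ U).symm (exteriorPower.ιMulti _ r e)) =
        (φ V).symm (exteriorPower.ιMulti _ r (fun j => F.val.map (homOfLE h).op (e j))))
    (b : Module.Basis (Fin r) (X.presheaf.stalk η) (F.presheaf.stalk η)) :
    ∃ e₀ : L.presheaf.stalk η, Function.Bijective (fun a : X.presheaf.stalk η => a • e₀) ∧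
      ∀ (U : X.affineOpens) (hU : η ∈ U.1) (e : Fin r → Γ(F, U.1)),
        L.presheaf.germ U.1 η hU (show Γ(L, U.1) from (φ U).symm (exteriorPower.ιMulti _ r
          (fun j => (e j : F.val.obj (op U.1))))) = b.det (fun j => F.presheaf.germ U.1 η hU (e j)) • e₀ := by
  classical
  haveI := hF
  haveI : Coh.IsQCoh L := Hyper5.isQCoh_of_isExtPow hL
  obtain ⟨W, hW, hηW, -, β, hβ⟩ := exists_affine_of_germs (M := F) (U := ⊤) (Opens.mem_top (η : X)) b
  let gen : ∀ (U : X.affineOpens) (e : Fin r → Γ(F, U.1)), Γ(L, U.1) :=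
    fun U e => (φ U).symm (exteriorPower.ιMulti _ r (fun j => (e j : F.val.obj (op U.1))))
  have hres : ∀ (U V : X.affineOpens) (h : V.1 ≤ U.1) (e : Fin r → Γ(F, U.1)),
      resM L h (gen U e) = gen V fun j => resM F h (e j) := fun U V h e => hφ U V h _
  let e₀ : L.presheaf.stalk η := L.presheaf.germ W η hηW (gen ⟨W, hW⟩ β)
  have key : ∀ (U : X.affineOpens) (hU : η ∈ U.1) (e : Fin r → Γ(F, U.1)),
      L.presheaf.germ U.1 η hU (gen U e) = b.det (fun j => F.presheaf.germ U.1 η hU (e j)) • e₀ := by
    intro U hU e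
    obtain ⟨V₁, hV₁, hη₁, hle₁, C, hC⟩ := exists_affine_of_scalars (U := U.1 ⊓ W)
      (⟨hU, hηW⟩ : η ∈ U.1 ⊓ W) (fun p : Fin r × Fin r =>
        b.repr (F.presheaf.germ U.1 η hU (e p.1)) p.2)
    let D : Fin r → Fin r → Γ(X, V₁) := fun i j => C (i, j)
    have hD : ∀ i j, X.presheaf.germ V₁ η hη₁ (D i j) = b.repr (F.presheaf.germ U.1 η hU (e i)) j := fun i j => hC (i, j)
    obtain ⟨V, hV, hVle, hηV, heq⟩ := exists_affine_of_germ_eq (M := F) hη₁
      (fun i => resM F (hle₁.trans inf_le_left) (e i))
      (fun i => ∑ j, D i j • resM F (hle₁.trans inf_le_right) (β j)) (fun i => by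
        simp only [map_sum]
        rw [show F.presheaf.germ V₁ η hη₁ (resM F (hle₁.trans inf_le_left) (e i)) = F.presheaf.germ U.1 η hU (e i) from
          TopCat.Presheaf.germ_res_apply F.presheaf _ _ _ _, ← b.sum_repr (F.presheaf.germ U.1 η hU (e i))]
        refine Finset.sum_congr rfl fun j _ => ?_
        rw [QCohLoc.germ_smul', hD, ← hβ]
        exact congrArg _ (TopCat.Presheaf.germ_res_apply F.presheaf _ _ _ _).symm)
    have hlU : V ≤ U.1 := hVle.trans (hle₁.trans inf_le_left)
    have hlW : V ≤ W := hVle.trans (hle₁.trans inf_le_right)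
    let A : Matrix (Fin r) (Fin r) Γ(X, V) := Matrix.of fun i j => res hVle (D i j)
    have hA : ∀ i, resM F hlU (e i) = ∑ j, A i j • resM F hlW (β j) := fun i => by
      have h := heq i
      rw [resM_resM] at h
      refine h.trans ?_
      rw [map_sum]
      refine Finset.sum_congr rfl fun j _ => ?_
      rw [resM_smul, resM_resM]
      rfl
    have hw : gen ⟨V, hV⟩ (fun i => resM F hlU (e i)) = A.det • gen ⟨V, hV⟩ (fun j => resM F hlW (β j)) := by
      have h := Frob15.alternating_sum_smul (exteriorPower.ιMulti Γ(X, V) r (M := F.val.obj (op V))) A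
        (fun j => (resM F hlW (β j) : F.val.obj (op V)))
      have e1 : (fun i => (resM F hlU (e i) : F.val.obj (op V))) =
          fun i => ∑ j, A i j • (resM F hlW (β j) : F.val.obj (op V)) := funext hA
      exact (congrArg (φ ⟨V, hV⟩).symm ((congrArg _ e1).trans h)).trans ((φ ⟨V, hV⟩).symm.map_smul _ _)
    rw [← TopCat.Presheaf.germ_res_apply L.presheaf (homOfLE hlU) η hηV]
    show L.presheaf.germ V η hηV (resM L hlU (gen U e)) = _
    rw [hres U ⟨V, hV⟩ hlU e, hw, QCohLoc.germ_smul', ← hres ⟨W, hW⟩ ⟨V, hV⟩ hlW β]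
    congr 1
    · rw [RingHom.map_det, b.det_apply, ← Matrix.det_transpose]
      congr 1
      ext i j
      exact (TopCat.Presheaf.germ_res_apply X.presheaf _ _ _ _).trans (hD j i)
    · exact TopCat.Presheaf.germ_res_apply L.presheaf (homOfLE hlW) η hηV _
  refine ⟨e₀, ?_, key⟩
  letI : Field (X.presheaf.stalk η) := isField_stalk_genericPoint.toField
  have hne : e₀ ≠ 0 := by
    intro h0
    obtain ⟨f, hf, hfm⟩ := QCohLoc.exists_smul_eq_zero_of_germ L hW hηW (gen ⟨W, hW⟩ β) h0
    letI := (X.presheaf.germ W η hηW).hom.toAlgebra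
    letI := Module.compHom (F.presheaf.stalk η) (X.presheaf.germ W η hηW).hom
    haveI : IsScalarTower Γ(X, W) (X.presheaf.stalk η) (F.presheaf.stalk η) :=
      IsScalarTower.of_algebraMap_smul fun _ _ => rfl
    let g : (F.val.obj (op W)) →ₗ[Γ(X, W)] F.presheaf.stalk η :=
      { toFun := fun m => F.presheaf.germ W η hηW (show Γ(F, W) from m)
        map_add' := fun a c => map_add _ _ _
        map_smul' := fun a c => QCohLoc.germ_smul' (M := F) hηW a c }
    let alt : (F.val.obj (op W)) [⋀^Fin r]→ₗ[Γ(X, W)] X.presheaf.stalk η :=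
      { (b.det.toMultilinearMap.restrictScalars Γ(X, W)).compLinearMap (fun _ => g) with
        map_eq_zero_of_eq' := fun v i j hv hij => b.det.map_eq_zero_of_eq _ (congrArg g hv) hij }
    have h1 : exteriorPower.alternatingMapLinearEquiv alt
        (exteriorPower.ιMulti Γ(X, W) r (fun j => (β j : F.val.obj (op W)))) = 1 := by
      rw [exteriorPower.alternatingMapLinearEquiv_apply_ιMulti]
      show b.det (fun j => F.presheaf.germ W η hηW (β j)) = 1
      rw [show (fun j => F.presheaf.germ W η hηW (β j)) = b from funext hβ, b.det_self]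
    have h2 : f • exteriorPower.ιMulti Γ(X, W) r (fun j => (β j : F.val.obj (op W))) = 0 := by
      have h := congrArg (φ ⟨W, hW⟩) (show f • ((φ ⟨W, hW⟩).symm (exteriorPower.ιMulti Γ(X, W) r
        (fun j => (β j : F.val.obj (op W))))) = 0 from hfm)
      rwa [map_smul, LinearEquiv.apply_symm_apply, map_zero] at h
    have h3 := ((exteriorPower.alternatingMapLinearEquiv alt).map_smul f _).symm.trans
      ((congrArg (exteriorPower.alternatingMapLinearEquiv alt) h2).trans
        (exteriorPower.alternatingMapLinearEquiv alt).map_zero)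
    replace h3 : algebraMap Γ(X, W) (X.presheaf.stalk η) f * 1 = 0 :=
      (Algebra.smul_def f (1 : X.presheaf.stalk η)).symm.trans ((congrArg (f • ·) h1).symm.trans h3)
    rw [mul_one] at h3
    exact ((X.mem_basicOpen f _ hηW).1 hf).ne_zero h3
  refine ⟨smul_left_injective _ hne, fun v => ?_⟩
  obtain ⟨V, hV, hηV, -, s, hs⟩ := exists_affine_of_germs (M := L) (U := ⊤) (Opens.mem_top (η : X)) (fun _ : Unit => v)
  have hz : (φ ⟨V, hV⟩) (s ()) ∈ Submodule.span Γ(X, V) (Set.range (exteriorPower.ιMulti Γ(X, V) r)) := by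
    rw [exteriorPower.ιMulti_span]; trivial
  rw [← hs (), show s () = (φ ⟨V, hV⟩).symm ((φ ⟨V, hV⟩) (s ())) from ((φ ⟨V, hV⟩).symm_apply_apply _).symm]
  generalize (φ ⟨V, hV⟩) (s ()) = z at hz
  induction hz using Submodule.span_induction with
  | mem z hz => obtain ⟨e, rfl⟩ := hz; exact ⟨_, (key ⟨V, hV⟩ hηV e).symm⟩
  | zero =>
    refine ⟨0, ?_⟩
    dsimp only
    rw [zero_smul]
    exact ((congrArg _ (map_zero (φ ⟨V, hV⟩).symm)).trans (map_zero (L.presheaf.germ V η hηV).hom)).symm
  | add a c _ _ ha hc =>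
    obtain ⟨a', ha'⟩ := ha; obtain ⟨c', hc'⟩ := hc
    refine ⟨a' + c', ?_⟩
    dsimp only at ha' hc' ⊢
    rw [add_smul, ha', hc']
    exact ((congrArg _ (map_add (φ ⟨V, hV⟩).symm a c)).trans (map_add (L.presheaf.germ V η hηV).hom _ _)).symm
  | smul a z _ hz =>
    obtain ⟨z', hz'⟩ := hz
    refine ⟨X.presheaf.germ V η hηV a * z', ?_⟩
    dsimp only at hz' ⊢
    rw [mul_smul, hz', map_smul]
    exact (QCohLoc.germ_smul' (M := L) hηV a _).symm

/-- the coordinates of a stalk at the generic point -/
noncomputable def coordLat (b : Module.Basis (Fin r) (X.presheaf.stalk η) (F.presheaf.stalk η)) (y : X) :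
    Submodule (X.presheaf.stalk y) (Fin r → X.functionField) :=
  Submodule.span (X.presheaf.stalk y) (Set.range fun v : F.presheaf.stalk y =>
    fun j : Fin r => (b.repr (toGen F y v) j : X.functionField))

/-- the coordinate map of a stalk -/
noncomputable def coordMap (b : Module.Basis (Fin r) (X.presheaf.stalk η) (F.presheaf.stalk η)) (y : X) :
    F.presheaf.stalk y →ₗ[X.presheaf.stalk y] (Fin r → X.functionField) where
  toFun v := fun j => b.repr (toGen F y v) j
  map_add' v w := funext fun j => by simp only [map_add, Finsupp.add_apply, Pi.add_apply]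
  map_smul' a v := funext fun j => by
    rw [toGen_smul, map_smul, Finsupp.smul_apply, RingHom.id_apply, Pi.smul_apply, Algebra.smul_def]
    rfl

theorem coordLat_eq_range (b : Module.Basis (Fin r) (X.presheaf.stalk η) (F.presheaf.stalk η)) (y : X) :
    coordLat b y = LinearMap.range (coordMap b y) := by
  refine le_antisymm (Submodule.span_le.2 ?_) fun x hx => Submodule.subset_span ?_
  · rintro _ ⟨v, rfl⟩; exact ⟨v, rfl⟩
  · obtain ⟨v, rfl⟩ := hx; exact ⟨v, rfl⟩

theorem fg_coordLat (hF : Coh.IsCoh F) (b : Module.Basis (Fin r) (X.presheaf.stalk η) (F.presheaf.stalk η)) (y : X) :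
    (coordLat b y).FG := by
  haveI := AssSch12.finite_stalk hF y
  rw [coordLat_eq_range, LinearMap.range_eq_map]
  exact Module.Finite.fg_top.map _

theorem span_coordLat (hF : Coh.IsQCoh F) (b : Module.Basis (Fin r) (X.presheaf.stalk η) (F.presheaf.stalk η))
    (y : X) : Submodule.span X.functionField (coordLat b y : Set (Fin r → X.functionField)) = ⊤ := by
  refine eq_top_iff.2 fun x _ => ?_
  let w : F.presheaf.stalk η := b.equivFun.symm x
  obtain ⟨c, m, hc, hcm⟩ := exists_smul_toGen_eq F hF (genericPoint_specializes y) w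
  rw [toGen_genericPoint] at hcm
  obtain ⟨u, hu⟩ := hc
  have hx : x = (↑u⁻¹ : X.presheaf.stalk η) • coordMap b y m := by
    have hmem : w = (↑u⁻¹ : X.presheaf.stalk η) • toGen F y m := by
      rw [← hcm, ← mul_smul]
      show w = (↑u⁻¹ * (X.presheaf.stalkSpecializes (genericPoint_specializes y)).hom c) • w
      rw [← hu, Units.inv_mul, one_smul]
    funext j
    have h := congrArg (fun z => b.repr z j) hmem
    simp only [map_smul, Finsupp.smul_apply] at h
    rw [show b.repr w j = x j from congrFun (b.equivFun.apply_symm_apply x) j] at h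
    exact h
  rw [hx]
  exact Submodule.smul_mem _ (↑u⁻¹ : X.functionField)
    (Submodule.subset_span (by rw [coordLat_eq_range]; exact LinearMap.mem_range_self _ _))

/-- The order of the wedge of a basis of the generic stalk in the reflexive hull of the top exterior power is minus
the order of the determinant of the lattice. -/
theorem sOrd_ddual_wedge (hX : Pi1.IsNormalScheme X) (hF : Coh.IsCoh F) (hLc : Coh.IsCoh L)
    (φ : ∀ U : X.affineOpens, (L.val.obj (op U.1)) ≃ₗ[Γ(X, U.1)] ↥(⋀[Γ(X, U.1)]^r (F.val.obj (op U.1))))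
    (b : Module.Basis (Fin r) (X.presheaf.stalk η) (F.presheaf.stalk η))
    {e₀ : L.presheaf.stalk η} (he₀ : Function.Bijective (fun a : X.presheaf.stalk η => a • e₀))
    (hkey : ∀ (U : X.affineOpens) (hU : η ∈ U.1) (e : Fin r → Γ(F, U.1)),
      L.presheaf.germ U.1 η hU (show Γ(L, U.1) from (φ U).symm (exteriorPower.ιMulti _ r
        (fun j => (e j : F.val.obj (op U.1))))) = b.det (fun j => F.presheaf.germ U.1 η hU (e j)) • e₀)
    {y : X} (hy : Order.coheight y = 1) (e : Fin r → Fin r → X.functionField)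
    (he : Submodule.span (X.presheaf.stalk y) (Set.range e) = coordLat b y)
    (hd : Matrix.det (Matrix.of e) ≠ 0) :
    sOrd (RefHull.ddual L) y (RefHull.stalkMapₗ (RefHull.bidualMap L) η e₀) =
      - Scheme.ord (Matrix.det (Matrix.of e)) y := by
  classical
  have hdim := ((ringKrullDim_eq_one_iff_coheight y).2 hy).le
  haveI := (hX y).1
  haveI := (hX y).2
  haveI : IsRegularLocalRing (X.presheaf.stalk y) := CAlgH3.isRegularLocalRing_of_normal_dim_le_one hdim
  have hem : ∀ i, ∃ m : F.presheaf.stalk y, coordMap b y m = e i := fun i => by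
    have h : e i ∈ coordLat b y := he ▸ Submodule.subset_span ⟨i, rfl⟩
    rwa [coordLat_eq_range] at h
  choose m hm using hem
  -- determinants are read off from the coordinates
  have hdet : ∀ v : Fin r → F.presheaf.stalk y,
      b.det (fun i => toGen F y (v i)) = Matrix.det (Matrix.of fun i => coordMap b y (v i)) := fun v => by
    rw [b.det_apply, ← Matrix.det_transpose]
    rfl
  obtain ⟨U, hU, hyU, -, s, hs⟩ := exists_affine_of_germs (M := F) (U := ⊤) (Opens.mem_top y) m
  have hηU : η ∈ U := genericPoint_mem_of_mem hyU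
  let t : L.presheaf.stalk y := L.presheaf.germ U y hyU (show Γ(L, U) from (φ ⟨U, hU⟩).symm
    (exteriorPower.ιMulti _ r (fun j => (s j : F.val.obj (op U)))))
  have ht : toGen L y t = Matrix.det (Matrix.of e) • e₀ := by
    rw [toGen_germ, hkey ⟨U, hU⟩ hηU s]
    congr 1
    rw [show (fun j => F.presheaf.germ U η hηU (s j)) = fun j => toGen F y (m j) from
      funext fun j => by rw [← hs, toGen_germ], hdet, show (fun i => coordMap b y (m i)) = e from funext hm]
  have himg : ∀ v : L.presheaf.stalk y, ∃ c : X.presheaf.stalk y, toGen L y v = toGen L y (c • t) := by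
    intro v
    obtain ⟨V, hV, hyV, -, z, hz⟩ := exists_affine_of_germs (M := L) (U := ⊤) (Opens.mem_top y) (fun _ : Unit => v)
    have hηV : η ∈ V := genericPoint_mem_of_mem hyV
    have hzz : (φ ⟨V, hV⟩) (z ()) ∈ Submodule.span Γ(X, V) (Set.range (exteriorPower.ιMulti Γ(X, V) r)) := by
      rw [exteriorPower.ιMulti_span]; trivial
    rw [← hz (), show z () = (φ ⟨V, hV⟩).symm ((φ ⟨V, hV⟩) (z ())) from ((φ ⟨V, hV⟩).symm_apply_apply _).symm]
    generalize (φ ⟨V, hV⟩) (z ()) = w at hzz
    induction hzz using Submodule.span_induction with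
    | mem w hw =>
      obtain ⟨a, rfl⟩ := hw
      obtain ⟨c, hc⟩ := exists_det_eq (R := X.presheaf.stalk y) e
        (fun i => coordMap b y (F.presheaf.germ V y hyV (show Γ(F, V) from a i)))
        (fun i => by rw [he, coordLat_eq_range]; exact LinearMap.mem_range_self _ _)
      refine ⟨c, ?_⟩
      rw [toGen_smul, ht, toGen_germ, hkey ⟨V, hV⟩ hηV a, ← mul_smul]
      congr 1
      rw [show (fun j => F.presheaf.germ V η hηV (a j)) = fun j => toGen F y (F.presheaf.germ V y hyV
        (show Γ(F, V) from a j)) from funext fun j => (toGen_germ _ _ _).symm, hdet, hc]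
      rfl
    | zero =>
      refine ⟨0, ?_⟩
      rw [zero_smul]
      exact congrArg (toGen L y)
        ((congrArg _ (map_zero (φ ⟨V, hV⟩).symm)).trans (map_zero (L.presheaf.germ V y hyV).hom))
    | add a c _ _ ha hc =>
      obtain ⟨a', ha'⟩ := ha; obtain ⟨c', hc'⟩ := hc
      refine ⟨a' + c', (congrArg (toGen L y) ((congrArg _ (map_add (φ ⟨V, hV⟩).symm a c)).trans
        (map_add (L.presheaf.germ V y hyV).hom _ _))).trans ?_⟩
      rw [add_smul, map_add (toGen L y) (a' • t), ← ha', ← hc']
      exact map_add _ _ _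
    | smul a w _ hw =>
      obtain ⟨c, hc⟩ := hw
      refine ⟨X.presheaf.germ V y hyV a * c, ?_⟩
      rw [mul_smul, toGen_smul, ← hc, ← toGen_smul, map_smul]
      exact congrArg _ (QCohLoc.germ_smul' (M := L) hyV a _)
  let μ := RefHull.bidualMap L
  let t' := RefHull.stalkMapₗ μ y t
  have ht' : toGen (RefHull.ddual L) y t' = Matrix.det (Matrix.of e) • RefHull.stalkMapₗ μ η e₀ := by
    rw [toGen_stalkMap, ht]
    exact map_smul _ _ _
  have hη := bijective_stalk_bidualMap_genericPoint hLc
  have hμe := bijective_smul_map hη he₀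
  have hDc := isCoh_ddual hLc
  have hinj := toGen_injective (RefHull.ddual L) hDc.1 y (by
    haveI := AssSch12.finite_stalk hDc y
    haveI : Module.IsReflexive (X.presheaf.stalk y) ((RefHull.ddual L).presheaf.stalk y) := isReflexiveAt_ddual hLc y
    infer_instance)
  have hsurj := stalk_bidualMap_surjective hLc y (by
    haveI := AssSch12.finite_stalk hLc y
    exact free_of_torsionFree_of_dim_le_one hdim isTorsionFree_quotient_torsion)
  have hbij : Function.Bijective fun a : X.presheaf.stalk y => a • t' := by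
    constructor
    · intro a c hac
      have h := congrArg (toGen (RefHull.ddual L) y) hac
      simp only at h
      rw [toGen_smul, toGen_smul, ht', ← mul_smul, ← mul_smul] at h
      exact IsFractionRing.injective (X.presheaf.stalk y) X.functionField
        (mul_right_cancel₀ hd (hμe.1 h))
    · intro v
      obtain ⟨w, rfl⟩ := hsurj v
      obtain ⟨c, hc⟩ := himg w
      refine ⟨c, hinj ?_⟩
      show toGen (RefHull.ddual L) y (c • RefHull.stalkMapₗ μ y t) = _
      rw [← map_smul, toGen_stalkMap, toGen_stalkMap, hc]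
  rw [sOrd_eq hDc.1 hy hbij (Matrix.det (Matrix.of e))⁻¹ _ (by
    rw [ht', ← mul_smul, inv_mul_cancel₀ hd]; exact one_smul _ _)]
  have h := Scheme.ord_mul (x := y) hd (inv_ne_zero hd)
  rw [mul_inv_cancel₀ hd, (Scheme.ord_eq_iff hy one_ne_zero).2 (map_one _)] at h
  omega

end Groth.Agent.Mod22
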